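import Mathlib

/-!
# Integer vectors with products `δ + n`

At most `n + m` coordinates meet `m` integer vectors with products `δ + n`; for `n` at most three
fewer coordinates force exactly `n + 2` of them.
-/

set_option autoImplicit false

open scoped Classical

namespace CfsgLib.FreeInertial

variable {ι O : Type*} [Fintype ι] [Fintype O]

/-- The support. -/
noncomputable def suppV (v : ι → ℤ) : Finset ι := Finset.univ.filter fun i => v i ≠ 0

omit [Fintype O] in
theorem card_suppV_le (v : ι → ℤ) : ((suppV v).card : ℤ) ≤ ∑ i, v i * v i := by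
  refine le_trans ?_ (Finset.sum_le_sum_of_subset_of_nonneg (Finset.subset_univ (suppV v))
    fun i _ _ => mul_self_nonneg (v i))
  rw [Finset.card_eq_sum_ones, Nat.cast_sum]
  refine Finset.sum_le_sum fun i hi => ?_
  have h := mul_self_pos.2 (Finset.mem_filter.1 hi).2
  push_cast
  linarith

variable {n : ℕ} {a : O → ι → ℤ}

/-- The differences have two entries and meet the support of the first vector. -/
theorem diff_facts (h : ∀ q r, ∑ i, a q i * a r i = (if q = r then 1 else 0) + (n : ℤ)) {q r : O}
    (hqr : q ≠ r) :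
    (suppV fun i => a q i - a r i).card ≤ 2 ∧ ∑ i, a q i * (a q i - a r i) = 1 ∧
      ∑ i, (a q i - a r i) * (a q i - a r i) = 2 := by
  have h1 := h q q
  have h2 := h q r
  have h3 := h r r
  rw [if_pos rfl] at h1 h3
  rw [if_neg hqr] at h2
  have e1 : ∑ i, (a q i - a r i) * (a q i - a r i) = 2 := by
    have e : ∀ i, (a q i - a r i) * (a q i - a r i) =
        a q i * a q i - 2 * (a q i * a r i) + a r i * a r i := fun i => by ring
    simp only [e, Finset.sum_add_distrib, Finset.sum_sub_distrib, ← Finset.mul_sum, h1, h2, h3]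
    ring
  refine ⟨?_, ?_, e1⟩
  · have := card_suppV_le fun i => a q i - a r i
    rw [e1] at this
    exact_mod_cast this
  · simp only [mul_sub, Finset.sum_sub_distrib, h1, h2]
    ring

/-- **The bound.** -/
theorem card_le_add (h : ∀ q r, ∑ i, a q i * a r i = (if q = r then 1 else 0) + (n : ℤ))
    (hsupp : ∀ i, ∃ q, a q i ≠ 0) [Nonempty O] : Fintype.card ι ≤ n + Fintype.card O := by
  obtain ⟨q₀⟩ := ‹Nonempty O›
  set S := suppV (a q₀) with hS
  have hScard : S.card ≤ n + 1 := by
    have := card_suppV_le (a q₀)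
    rw [h, if_pos rfl] at this
    rw [hS]
    omega
  have hsub : (Finset.univ : Finset ι) ⊆
      S ∪ (Finset.univ.erase q₀).biUnion fun q => (suppV fun i => a q₀ i - a q i) \ S := by
    intro i _
    by_cases hi : i ∈ S
    · exact Finset.mem_union_left _ hi
    obtain ⟨q, hq⟩ := hsupp i
    have hi0 : a q₀ i = 0 := by simpa [hS, suppV] using hi
    have hne : q ≠ q₀ := fun e => hq (e ▸ hi0)
    refine Finset.mem_union_right _ (Finset.mem_biUnion.2
      ⟨q, Finset.mem_erase.2 ⟨hne, Finset.mem_univ _⟩, Finset.mem_sdiff.2 ⟨?_, hi⟩⟩)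
    simp [suppV, hi0, hq]
  have hone : ∀ q ∈ Finset.univ.erase q₀, ((suppV fun i => a q₀ i - a q i) \ S).card ≤ 1 := by
    intro q hq
    obtain ⟨h2, h1, -⟩ := diff_facts h (Finset.ne_of_mem_erase hq).symm
    obtain ⟨i, hi, hiS⟩ : ∃ i ∈ suppV (fun i => a q₀ i - a q i), i ∈ S := by
      by_contra hc
      push Not at hc
      rw [Finset.sum_eq_zero fun i _ => ?_] at h1
      · exact zero_ne_one h1
      by_cases hi : a q₀ i - a q i = 0
      · rw [hi, mul_zero]
      · have := hc i (by simp [suppV, hi])
        rw [show a q₀ i = 0 by simpa [hS, suppV] using this, zero_mul]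
    calc _ ≤ ((suppV fun i => a q₀ i - a q i).erase i).card := Finset.card_le_card fun x hx => by
          obtain ⟨hx1, hx2⟩ := Finset.mem_sdiff.1 hx
          exact Finset.mem_erase.2 ⟨fun e => hx2 (e ▸ hiS), hx1⟩
      _ ≤ 1 := by rw [Finset.card_erase_of_mem hi]; omega
  have hb := Finset.card_biUnion_le_card_mul _ _ _ hone
  rw [Finset.card_erase_of_mem (Finset.mem_univ q₀), Finset.card_univ, mul_one] at hb
  have hle := (Finset.card_le_card hsub).trans (Finset.card_union_le _ _)
  rw [Finset.card_univ] at hle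
  have : 0 < Fintype.card O := Fintype.card_pos
  omega

/-- **Few products.** -/
theorem card_eq_or (h : ∀ q r, ∑ i, a q i * a r i = (if q = r then 1 else 0) + (n : ℤ))
    (hsupp : ∀ i, ∃ q, a q i ≠ 0) (hn2 : 2 ≤ n) (hn3 : n ≤ 3) [Nontrivial O] :
    Fintype.card ι = n + Fintype.card O ∨ Fintype.card ι = n + 2 := by
  -- the entries are signs
  have hent : ∀ q i, a q i = 0 ∨ a q i = 1 ∨ a q i = -1 := by
    intro q i
    by_contra hc
    push Not at hc
    have h2 : a q i ≤ -2 ∨ 2 ≤ a q i := by omega
    have hq := h q q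
    rw [if_pos rfl, ← Finset.add_sum_erase _ _ (Finset.mem_univ i)] at hq
    have hrest : (0 : ℤ) ≤ ∑ j ∈ Finset.univ.erase i, a q j * a q j :=
      Finset.sum_nonneg fun j _ => mul_self_nonneg _
    have h4 : 4 ≤ a q i * a q i := by
      rcases h2 with h2 | h2 <;> nlinarith
    have hn : n = 3 := by
      have : (3 : ℤ) ≤ n := by linarith
      omega
    subst hn
    have hz : ∀ j, j ≠ i → a q j = 0 := fun j hj => by
      have h0 : ∑ j ∈ Finset.univ.erase i, a q j * a q j = 0 := by push_cast at hq; linarith
      exact mul_self_eq_zero.1 ((Finset.sum_eq_zero_iff_of_nonneg fun j _ => mul_self_nonneg _).1 h0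
        j (Finset.mem_erase.2 ⟨hj, Finset.mem_univ _⟩))
    have hval : a q i * a q i = 4 := by push_cast at hq; linarith
    have habs : a q i = 2 ∨ a q i = -2 := by
      have : (a q i - 2) * (a q i + 2) = 0 := by linarith [hval]
      rcases mul_eq_zero.1 this with e | e <;> omega
    obtain ⟨r, hr⟩ := exists_ne q
    have hqr := h q r
    rw [if_neg hr.symm, Finset.sum_eq_single i (fun j _ hj => by rw [hz j hj, zero_mul])
      (fun h => absurd (Finset.mem_univ _) h)] at hqr
    rcases habs with e | e <;> rw [e] at hqr <;> omega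
  have hsq : ∀ q i, a q i * a q i = if a q i ≠ 0 then 1 else 0 := fun q i => by
    rcases hent q i with e | e | e <;> simp [e]
  have hcardS : ∀ q, (suppV (a q)).card = n + 1 := fun q => by
    have := h q q
    simp only [hsq, if_pos, Finset.sum_boole, if_true] at this
    simp only [suppV]
    push_cast at this
    omega
  -- two supports differ in one place
  have hinter : ∀ q r, q ≠ r → (suppV (a q) ∩ suppV (a r)).card = n := by
    intro q r hqr
    have hle : (suppV (a q) ∩ suppV (a r)).card ≤ n + 1 :=
      (Finset.card_le_card Finset.inter_subset_left).trans (hcardS q).le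
    have hprod : (n : ℤ) = ∑ i ∈ suppV (a q) ∩ suppV (a r), a q i * a r i := by
      rw [Finset.sum_subset (Finset.subset_univ _) fun i _ hi => ?_, h q r, if_neg hqr, zero_add]
      simp only [suppV, Finset.mem_inter, Finset.mem_filter, Finset.mem_univ, true_and,
        not_and_or, not_not] at hi
      rcases hi with e | e <;> simp [e]
    have hge : (n : ℤ) ≤ ((suppV (a q) ∩ suppV (a r)).card : ℤ) := by
      rw [hprod, Finset.card_eq_sum_ones, Nat.cast_sum]
      refine Finset.sum_le_sum fun i _ => ?_
      rcases hent q i with e | e | e <;> rcases hent r i with e' | e' | e' <;> simp [e, e']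
    by_contra hne
    have heq : (suppV (a q) ∩ suppV (a r)).card = n + 1 := by omega
    have hqeq : suppV (a q) ∩ suppV (a r) = suppV (a q) :=
      Finset.eq_of_subset_of_card_le Finset.inter_subset_left (by rw [heq, hcardS])
    have hreq : suppV (a q) ∩ suppV (a r) = suppV (a r) :=
      Finset.eq_of_subset_of_card_le Finset.inter_subset_right (by rw [heq, hcardS])
    -- the products of signs have the parity of their number
    have hpar : ((∑ i ∈ suppV (a q) ∩ suppV (a r), a q i * a r i : ℤ) : ZMod 2) =
        ((suppV (a q) ∩ suppV (a r)).card : ZMod 2) := by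
      rw [Finset.card_eq_sum_ones, Int.cast_sum, Nat.cast_sum]
      refine Finset.sum_congr rfl fun i hi => ?_
      obtain ⟨h1, h2⟩ := Finset.mem_inter.1 hi
      simp only [suppV, Finset.mem_filter] at h1 h2
      have h11 : ((-1 : ℤ) : ZMod 2) = 1 := by decide
      rcases hent q i with e | e | e <;> rcases hent r i with e' | e' | e' <;>
        simp_all
    rw [← hprod, heq] at hpar
    simp at hpar
  -- two supports
  obtain ⟨q₁, q₂, hq12⟩ := exists_pair_ne O
  set S₁ := suppV (a q₁)
  set S₂ := suppV (a q₂)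
  set U := S₁ ∪ S₂
  set C := S₁ ∩ S₂
  have hC : C.card = n := hinter _ _ hq12
  have hU : U.card = n + 2 := by
    have := Finset.card_union_add_card_inter S₁ S₂
    rw [show (S₁ ∩ S₂).card = n from hC, show S₁.card = n + 1 from hcardS _,
      show S₂.card = n + 1 from hcardS _] at this
    show (S₁ ∪ S₂).card = _
    omega
  have hdich : ∀ q, ¬ C ⊆ suppV (a q) → suppV (a q) ⊆ U := by
    intro q hq x hx
    by_contra hxU
    have hq1 : q ≠ q₁ := fun e => hq (e ▸ Finset.inter_subset_left)
    have hq2 : q ≠ q₂ := fun e => hq (e ▸ Finset.inter_subset_right)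
    obtain ⟨z, hzC, hz⟩ := Finset.not_subset.1 hq
    have hx1 : x ∉ S₁ := fun hh => hxU (Finset.mem_union_left _ hh)
    have hx2 : x ∉ S₂ := fun hh => hxU (Finset.mem_union_right _ hh)
    -- both intersections are the support without `x`, and lie in the core without `z`
    have e : ∀ {r}, q ≠ r → x ∉ suppV (a r) →
        suppV (a q) ∩ suppV (a r) = (suppV (a q)).erase x := fun {r} hr hxr =>
      Finset.eq_of_subset_of_card_le (fun i hi => Finset.mem_erase.2
        ⟨fun e => hxr (e ▸ (Finset.mem_inter.1 hi).2), (Finset.mem_inter.1 hi).1⟩)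
        (by rw [hinter q r hr, Finset.card_erase_of_mem hx, hcardS]; omega)
    have hsub : (suppV (a q)).erase x ⊆ C.erase z := fun i hi => by
      have h1 : i ∈ suppV (a q) ∩ S₁ := by rw [e hq1 hx1]; exact hi
      have h2 : i ∈ suppV (a q) ∩ S₂ := by rw [e hq2 hx2]; exact hi
      exact Finset.mem_erase.2 ⟨fun e => hz (e ▸ (Finset.mem_inter.1 h1).1),
        Finset.mem_inter.2 ⟨(Finset.mem_inter.1 h1).2, (Finset.mem_inter.1 h2).2⟩⟩
    have := Finset.card_le_card hsub
    rw [Finset.card_erase_of_mem hx, Finset.card_erase_of_mem hzC, hC, hcardS] at this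
    omega
  by_cases hall : ∀ q, suppV (a q) ⊆ U
  · right
    rw [← hU, ← Finset.card_univ]
    refine congrArg Finset.card (Finset.eq_univ_iff_forall.2 fun i => ?_).symm
    obtain ⟨q, hq⟩ := hsupp i
    exact hall q (by simp [suppV, hq])
  left
  push Not at hall
  obtain ⟨q₃, hq3⟩ := hall
  have hC3 : C ⊆ suppV (a q₃) := by_contra fun hh => hq3 (hdich _ hh)
  obtain ⟨w, hw, hwU⟩ := Finset.not_subset.1 hq3
  have hcore : ∀ q, C ⊆ suppV (a q) := by
    intro q
    by_contra hq
    have hq' : q ≠ q₃ := fun e => hq (e ▸ hC3)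
    have hsub := hdich q hq
    obtain ⟨z, hzC, hz⟩ := Finset.not_subset.1 hq
    have h3 : suppV (a q₃) = insert w C := (Finset.eq_of_subset_of_card_le
      (Finset.insert_subset hw hC3) (by
        rw [Finset.card_insert_of_notMem fun hh => hwU (Finset.mem_union_left _
          (Finset.mem_inter.1 hh).1), hC, hcardS])).symm
    have hle : suppV (a q) ∩ suppV (a q₃) ⊆ C.erase z := fun i hi => by
      obtain ⟨hi1, hi2⟩ := Finset.mem_inter.1 hi
      rw [h3] at hi2
      rcases Finset.mem_insert.1 hi2 with rfl | hiC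
      · exact absurd (hsub hi1) hwU
      · exact Finset.mem_erase.2 ⟨fun e => hz (e ▸ hi1), hiC⟩
    have := Finset.card_le_card hle
    rw [hinter _ _ hq', Finset.card_erase_of_mem hzC, hC] at this
    omega
  have hdisj : ((Finset.univ : Finset O) : Set O).PairwiseDisjoint fun q => suppV (a q) \ C := by
    intro q _ r _ hqr
    rw [Function.onFun, Finset.disjoint_left]
    intro i hiq hir
    obtain ⟨h1, h2⟩ := Finset.mem_sdiff.1 hiq
    have hsub : insert i C ⊆ suppV (a q) ∩ suppV (a r) := Finset.insert_subset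
      (Finset.mem_inter.2 ⟨h1, (Finset.mem_sdiff.1 hir).1⟩)
      (Finset.subset_inter (hcore q) (hcore r))
    have := Finset.card_le_card hsub
    rw [Finset.card_insert_of_notMem h2, hC, hinter _ _ hqr] at this
    omega
  have huniv : (Finset.univ : Finset ι) = C ∪ Finset.univ.biUnion fun q => suppV (a q) \ C := by
    refine (Finset.eq_univ_iff_forall.2 fun i => ?_).symm
    by_cases hi : i ∈ C
    · exact Finset.mem_union_left _ hi
    obtain ⟨q, hq⟩ := hsupp i
    exact Finset.mem_union_right _ (Finset.mem_biUnion.2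
      ⟨q, Finset.mem_univ _, Finset.mem_sdiff.2 ⟨by simp [suppV, hq], hi⟩⟩)
  rw [← Finset.card_univ (α := ι), huniv, Finset.card_union_of_disjoint, hC,
    Finset.card_biUnion hdisj, Finset.sum_congr rfl (g := fun _ => 1) fun q _ => by
      rw [Finset.card_sdiff_of_subset (hcore q), hC, hcardS]; omega,
    Finset.sum_const, Finset.card_univ, smul_eq_mul, mul_one]
  rw [Finset.disjoint_left]
  intro i hi hi'
  obtain ⟨q, -, hq⟩ := Finset.mem_biUnion.1 hi'
  exact (Finset.mem_sdiff.1 hq).2 hi

end CfsgLib.FreeInertial
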