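import Cfsg.Agent.Lib.BlockStar.Integral
import Cfsg.Agent.Lib.Blk83.FreeOrbit

/-!
# Generalized characters of finite abelian groups

A function is a generalized character when all its Fourier coefficients are integers.  Integrality
survives division by an integer prime to the order of the group, and this gives quotients by
integer valued generalized characters prime to the order.
-/

set_option autoImplicit false

open Cfsg Polynomial
open scoped ComplexConjugate

namespace CfsgLib.FreeInertial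

universe u

variable {A : Type u} [CommGroup A] [Fintype A]

/-- The Fourier coefficient, times the order. -/
noncomputable def fsum (f : A → ℂ) (lam : A →* ℂˣ) : ℂ := ∑ g, f g * conj (lam g : ℂ)

theorem fsum_eq_card_mul_classInner (f : A → ℂ) (lam : A →* ℂˣ) :
    fsum f lam = (Nat.card A : ℂ) * classInner f (fun g => (lam g : ℂ)) := by
  rw [fsum, classInner, ← mul_assoc, mul_inv_cancel₀ (Nat.cast_ne_zero.2 Nat.card_pos.ne'), one_mul]

theorem exists_int_fsum {f : A → ℂ} (hf : IsGeneralizedCharacter A f) (lam : A →* ℂˣ) :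
    ∃ z : ℤ, fsum f lam = (Nat.card A : ℂ) * z := by
  obtain ⟨z, hz⟩ := BlockStar.exists_int_classInner_gen hf
    (CfsgLib.Char.IsIrrCharacter.isGeneralizedCharacter (CfsgLib.Char.isIrrCharacter_linear lam))
  exact ⟨z, by rw [fsum_eq_card_mul_classInner, hz]⟩

theorem card_mul_eq_sum [Fintype (A →* ℂˣ)] (f : A → ℂ) (g : A) :
    (Nat.card A : ℂ) * f g = ∑ lam : A →* ℂˣ, fsum f lam * (lam g : ℂ) := by
  classical
  simp only [fsum, Finset.sum_mul]
  rw [Finset.sum_comm, Finset.sum_eq_single g]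
  · simp only [mul_assoc, mul_comm (conj _), Blk83.FreeOrbit.mul_conj_apply, mul_inv_cancel]
    rw [← Finset.mul_sum, Blk83.FreeOrbit.sum_dual, if_pos rfl, mul_comm]
  · intro h _ hne
    simp only [mul_assoc, mul_comm (conj _), Blk83.FreeOrbit.mul_conj_apply]
    rw [← Finset.mul_sum, Blk83.FreeOrbit.sum_dual, if_neg, mul_zero]
    exact fun h1 => hne (mul_inv_eq_one.1 h1).symm
  · exact fun h => absurd (Finset.mem_univ g) h

/-- The criterion. -/
theorem isGen_iff {f : A → ℂ} :
    IsGeneralizedCharacter A f ↔ ∀ lam, ∃ z : ℤ, fsum f lam = (Nat.card A : ℂ) * z := by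
  refine ⟨exists_int_fsum, fun h => ?_⟩
  have := Blk83.FreeOrbit.finite_dual (A := A)
  have := Fintype.ofFinite (A →* ℂˣ)
  choose z hz using h
  have hf : f = ∑ lam : A →* ℂˣ, ((z lam : ℂ) • fun g : A => (lam g : ℂ)) := by
    funext g
    refine mul_left_cancel₀ (Nat.cast_ne_zero.2 (Nat.card_pos (α := A)).ne' : (Nat.card A : ℂ) ≠ 0) ?_
    rw [card_mul_eq_sum, Finset.sum_apply, Finset.mul_sum]
    exact Finset.sum_congr rfl fun lam _ => by rw [hz, Pi.smul_apply, smul_eq_mul]; ring
  rw [hf]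
  exact CfsgLib.Char.IsGeneralizedCharacter.sum _ _ fun lam _ =>
    CfsgLib.Char.IsGeneralizedCharacter.intCast_smul
      (CfsgLib.Char.IsIrrCharacter.isGeneralizedCharacter (CfsgLib.Char.isIrrCharacter_linear lam)) _

theorem isIntegral_lam (lam : A →* ℂˣ) (g : A) : IsIntegral ℤ (lam g : ℂ) := by
  refine IsIntegral.of_pow (Nat.card_pos (α := A)) ?_
  rw [← Units.val_pow_eq_pow_val, ← map_pow, pow_card_eq_one', map_one, Units.val_one]
  exact isIntegral_one

theorem isIntegral_conj {z : ℂ} (h : IsIntegral ℤ z) : IsIntegral ℤ (conj z) :=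
  h.map (Complex.conjAe.toAlgHom.restrictScalars ℤ)

/-- An integer prime to the order can be cancelled. -/
theorem isGen_of_intCast_mul {f : A → ℂ} {N : ℤ} (hN0 : N ≠ 0) (hN : IsCoprime N (Nat.card A : ℤ))
    (hf : ∀ g, IsIntegral ℤ (f g)) (h : IsGeneralizedCharacter A fun g => (N : ℂ) * f g) :
    IsGeneralizedCharacter A f := by
  refine isGen_iff.2 fun lam => ?_
  obtain ⟨z, hz⟩ := exists_int_fsum h lam
  have hs : (N : ℂ) * fsum f lam = (Nat.card A : ℂ) * z := by
    rw [← hz, fsum, fsum, Finset.mul_sum]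
    exact Finset.sum_congr rfl fun g _ => by ring
  have hint : IsIntegral ℤ (fsum f lam) :=
    IsIntegral.sum _ fun g _ => (hf g).mul (isIntegral_conj (isIntegral_lam lam g))
  obtain ⟨a, b, hab⟩ := hN
  have hw : fsum f lam = ((a : ℂ) * z + (b : ℂ) * fsum f lam) * (Nat.card A : ℂ) := by
    have h1 : (a : ℂ) * N + (b : ℂ) * (Nat.card A : ℂ) = 1 := by exact_mod_cast hab
    linear_combination (a : ℂ) * hs - fsum f lam * h1
  set w := (a : ℂ) * z + (b : ℂ) * fsum f lam
  have hwint : IsIntegral ℤ w :=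
    ((isIntegral_algebraMap (R := ℤ) (x := a)).mul (isIntegral_algebraMap (R := ℤ) (x := z))).add
      ((isIntegral_algebraMap (R := ℤ) (x := b)).mul hint)
  have hq : w = ((((z : ℚ) / N) : ℚ) : ℂ) := by
    push_cast
    rw [eq_div_iff (Int.cast_ne_zero.2 hN0)]
    refine mul_left_cancel₀ (Nat.cast_ne_zero.2 (Nat.card_pos (α := A)).ne' : (Nat.card A : ℂ) ≠ 0) ?_
    linear_combination hs - (N : ℂ) * hw
  rw [hq] at hwint
  obtain ⟨k, hk⟩ := CfsgLib.Char.exists_int_of_isIntegral_ratCast hwint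
  refine ⟨k, ?_⟩
  rw [hw, hq, ← hk]
  push_cast
  ring

theorem isGen_conj {f : A → ℂ} (hf : IsGeneralizedCharacter A f) :
    IsGeneralizedCharacter A fun g => conj (f g) := by
  refine isGen_iff.2 fun lam => ?_
  obtain ⟨z, hz⟩ := exists_int_fsum hf lam⁻¹
  refine ⟨z, ?_⟩
  have h := congrArg conj hz
  rw [map_mul, map_natCast, map_intCast, fsum, map_sum] at h
  rw [fsum, ← h]
  refine Finset.sum_congr rfl fun g _ => ?_
  rw [map_mul, Complex.conj_conj, MonoidHom.inv_apply, ← map_inv, Blk83.FreeOrbit.conj_apply]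

omit [Fintype A] in
theorem isGen_aeval {f : A → ℂ} (hf : IsGeneralizedCharacter A f) (Q : ℤ[X]) :
    IsGeneralizedCharacter A fun g => aeval (f g) Q := by
  induction Q using Polynomial.induction_on' with
  | add P P' hP hP' =>
    simp only [map_add]
    exact CfsgLib.Char.IsGeneralizedCharacter.add hP hP'
  | monomial n r =>
    induction n generalizing r with
    | zero =>
      simp only [aeval_monomial, pow_zero, mul_one, eq_intCast]
      exact CfsgLib.Char.IsGeneralizedCharacter.intCast r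
    | succ n ih =>
      simp only [aeval_monomial, pow_succ, ← mul_assoc]
      have := ih r
      simp only [aeval_monomial] at this
      exact CfsgLib.Char.IsGeneralizedCharacter.mul this hf

/-- Finitely many nonzero integers have integral inverses up to one common factor. -/
theorem exists_poly_inverse (s : Finset ℤ) (hs : ∀ v ∈ s, v ≠ 0) :
    ∃ (N : ℤ) (Q : ℤ[X]), N = -∏ v ∈ s, (-v) ∧ ∀ v ∈ s, v * Q.eval v = N := by
  refine ⟨_, (∏ v ∈ s, (X - C v)).divX, rfl, fun v hv => ?_⟩
  have h := congrArg (Polynomial.eval v) (X_mul_divX_add (∏ v ∈ s, (X - C v)))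
  rw [eval_add, eval_mul, eval_X, eval_C, coeff_zero_eq_eval_zero, eval_prod, eval_prod,
    Finset.prod_eq_zero (f := fun j => Polynomial.eval v (X - C j)) hv (by simp)] at h
  simp only [eval_sub, eval_X, eval_C, zero_sub] at h
  linarith

/-- Dividing by an integer valued generalized character prime to the order. -/
theorem exists_clear {p : ℕ} (hp : p.Prime) (hA : IsPGroup p A) (V : A → ℤ)
    (hV : IsGeneralizedCharacter A fun g => (V g : ℂ)) (S : Finset A)
    (hunit : ∀ g ∈ S, ¬ (p : ℤ) ∣ V g) :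
    ∃ (N : ℤ) (Z : A → ℂ), IsGeneralizedCharacter A Z ∧ IsCoprime N (Nat.card A : ℤ) ∧
      N ≠ 0 ∧ ∀ g ∈ S, (V g : ℂ) * Z g = N := by
  classical
  set s := S.image V with hsdef
  have hs : ∀ v ∈ s, ¬ (p : ℤ) ∣ v := by
    intro v hv
    obtain ⟨g, hg, rfl⟩ := Finset.mem_image.1 hv
    exact hunit g hg
  have hs0 : ∀ v ∈ s, v ≠ 0 := fun v hv h => hs v hv (h ▸ dvd_zero _)
  obtain ⟨N, Q, hN, hQ⟩ := exists_poly_inverse s hs0
  refine ⟨N, _, isGen_aeval hV Q, ?_, ?_, fun g hg => ?_⟩
  · rw [hN]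
    refine IsCoprime.neg_left (IsCoprime.prod_left fun v hv => IsCoprime.neg_left ?_)
    have := Fact.mk hp
    obtain ⟨a, ha⟩ := IsPGroup.iff_card.1 hA
    rw [ha]
    push_cast
    exact (((Nat.prime_iff_prime_int.1 hp).coprime_iff_not_dvd).2 (hs v hv)).symm.pow_right
  · rw [hN, neg_ne_zero, Finset.prod_ne_zero_iff]
    exact fun v hv => neg_ne_zero.2 (hs0 v hv)
  · have h := hQ (V g) (Finset.mem_image.2 ⟨g, hg, rfl⟩)
    rw [← h, Int.cast_mul]
    congr 1
    simpa using (Polynomial.aeval_algebraMap_apply ℂ (V g) Q)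

end CfsgLib.FreeInertial
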