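import Cfsg.Agent.Lib.FreeInertial.PointValue

/-!
# The inertial quotient fixes the values at the point

In a block of rank one all primitive idempotents are equivalent, so an element stabilizing the
pair sends the idempotent at the point to one with the same values on the defect group.
-/

set_option autoImplicit false
set_option maxHeartbeats 1200000
set_option synthInstance.maxHeartbeats 400000

open Cfsg CfsgLib.Blocks CfsgLib.Blocks.Pairs CfsgLib.BlockStar
open scoped Classical

namespace CfsgLib.FreeInertial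

universe u

variable {G : Type u} [Group G] [Fintype G] {p : ℕ} [Fact p.Prime] {M : Ideal AlgInt}
  [M.IsMaximal] [CharP (ResField M) p]

noncomputable local instance : Field (ResField M) := Ideal.Quotient.field M

/-- Trace-like functionals on a block of rank one do not separate idempotents. -/
theorem traceLike_ne_zero (hM : IsPModular p M) {B : Set (IrrCharacter G)} (hB : IsPBlock M B)
    (hl : blockRank p B = 1) {F F' : MonoidAlgebra (ResField M) G →ₗ[ResField M] ResField M}
    (hF : Brandt.TraceLike (ebar hB) F) (hF' : Brandt.TraceLike (ebar hB) F')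
    {j j' : MonoidAlgebra (ResField M) G} (hj : j * j = j) (hj' : j' * j' = j') (h1 : F j = 1)
    (h1' : F' j' = 1) : F j' ≠ 0 := by
  haveI := Fintype.ofFinite B
  obtain ⟨φ₀, n, z, hφdef, hz, -⟩ := BlockRank.exists_rankOne_data hM hB hl
  have hfix : ∀ (y : MonoidAlgebra (ResField M) G), y ∈ fixAlg (ResField M) (⊥ : Subgroup G) :=
    fun y => mem_fixAlg.2 fun u hu s => by rw [Subgroup.mem_bot.1 hu]; simp
  have hφR : ∀ g, φ₀ g ∈ locRing M := fun g => by
    rw [hφdef]
    exact sum_mem fun ψ _ => mul_mem (intCast_mem _ _) (char_mem_locRing ψ g)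
  have hclφ : IsClassFunction G φ₀ := fun g h => by
    rw [hφdef]
    exact Finset.sum_congr rfl fun ψ _ => by rw [CfsgLib.Char.IsIrrCharacter.isClassFunction ψ.2 g h]
  have key : ∀ {F : MonoidAlgebra (ResField M) G →ₗ[ResField M] ResField M},
      Brandt.TraceLike (ebar hB) F → ∃ S : ResField M, ∀ a : MonoidAlgebra (locRing M) G,
        a * a = a → F (redA M a) =
          S * red M (∑ g ∈ Finset.univ.filter (IsPRegular p), a.coeff g * ⟨φ₀ g, hφR g⟩) := by
    intro F hF
    obtain ⟨al, hal⟩ := Brandt.exists_lift hM hB hF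
    refine ⟨red M (∑ θ ∈ (Set.toFinite B).toFinset, al θ * (z θ : locRing M)), fun a ha => ?_⟩
    have e1 : F (redA M a) = ∑ g, red M (a.coeff g) * F (MonoidAlgebra.single g 1) := by
      conv_lhs => rw [← MonoidAlgebra.sum_coeff_single (redA M a)]
      rw [Finsupp.sum_fintype _ _ (fun g => by simp), map_sum]
      refine Finset.sum_congr rfl fun g _ => ?_
      rw [← smul_eq_mul, ← map_smul, MonoidAlgebra.smul_single', mul_one, coeff_redA]
    rw [e1]
    simp only [hal]
    simp only [← map_mul, ← map_sum]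
    refine congrArg (red M) ?_
    simp only [Finset.mul_sum]
    rw [Finset.sum_comm]
    conv_rhs => arg 2; ext g; rw [Finset.sum_mul]
    conv_rhs => rw [Finset.sum_comm]
    refine Finset.sum_congr rfl fun θ hθ => Subtype.ext ?_
    push_cast
    have h2 := lin_eq_sum_regular (p := p) hM ha (CfsgLib.Char.IsIrrCharacter.isClassFunction θ.2)
    rw [lin_apply] at h2
    calc ∑ g, (a.coeff g : ℂ) * ((al θ : ℂ) * (θ : G → ℂ) g)
        = (al θ : ℂ) * ∑ g, (a.coeff g : ℂ) * (θ : G → ℂ) g := by
          rw [Finset.mul_sum]; exact Finset.sum_congr rfl fun g _ => by ring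
      _ = _ := by
          rw [h2, Finset.mul_sum]
          refine Finset.sum_congr rfl fun g hg => ?_
          rw [hz θ ((Set.toFinite B).mem_toFinset.1 hθ) g (Finset.mem_filter.1 hg).2]
          ring
  obtain ⟨S, hS⟩ := key hF
  obtain ⟨S', hS'⟩ := key hF'
  obtain ⟨J, -, hJ, hJr⟩ := exists_idem_lift (hfix j) hj
  obtain ⟨J', -, hJ', hJr'⟩ := exists_idem_lift (hfix j') hj'
  rw [← hJr, hS J hJ] at h1
  rw [← hJr', hS' J' hJ'] at h1'
  rw [← hJr', hS J' hJ']
  exact mul_ne_zero (left_ne_zero_of_mul_eq_one h1) (right_ne_zero_of_mul_eq_one h1')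

/-- Two primitive idempotents of the fixed algebra over a pair of rank one are exchanged. -/
theorem exists_swap (hM : IsPModular p M) {P C : Subgroup G}
    (hC : C = Subgroup.centralizer (P : Set G)) (hP : IsPGroup p P) {c : Set (IrrCharacter C)}
    (hc : IsPBlock M c) (hl : blockRank p c = 1) {y y' : fixAlg (ResField M) P} (hy : Prim y)
    (hy' : Prim y') (hne : trunc P (y : MonoidAlgebra (ResField M) G) ≠ 0)
    (hne' : trunc P (y' : MonoidAlgebra (ResField M) G) ≠ 0)
    (hce : trunc P (y : MonoidAlgebra (ResField M) G) * eIn hc =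
      trunc P (y : MonoidAlgebra (ResField M) G))
    (hce' : trunc P (y' : MonoidAlgebra (ResField M) G) * eIn hc =
      trunc P (y' : MonoidAlgebra (ResField M) G)) :
    ∃ u v : fixAlg (ResField M) P, u * v = y ∧ v * u = y' := by
  have hdown : ∀ t : MonoidAlgebra (ResField M) G, SuppIn C t → t * eIn hc = t →
      ebar hc * down C t = down C t := fun t hts ht => by
    refine up_injective C ?_
    rw [up_mul, up_down hts]
    show eIn hc * t = t
    rw [← mul_comm_of_suppIn hts (isBlockIdem_eIn hc).mem.fixed, ht]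
  have hts : ∀ t : MonoidAlgebra (ResField M) G, SuppIn C (trunc P t) := fun t =>
    hC ▸ trunc_suppIn P t
  have hεc : ∀ x : MonoidAlgebra (ResField M) C, ebar hc * x = x * ebar hc := fun x =>
    (Subalgebra.mem_center_iff.1 (blockIdem hc).2 x).symm
  have hεi : ebar hc * ebar hc = ebar hc :=
    congrArg Subtype.val (isIdempotentElem_blockIdem hc).eq
  set j := down C (trunc P (y : MonoidAlgebra (ResField M) G)) with hj
  set j' := down C (trunc P (y' : MonoidAlgebra (ResField M) G)) with hj'
  have hjp := prim_down_trunc hC hP hy hne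
  have hjp' := prim_down_trunc hC hP hy' hne'
  obtain ⟨F, n, ρ, hF, hF1, hρ, hFρ⟩ :=
    exists_traceLike_one hεc hεi hjp (hdown _ (hts _) hce)
  obtain ⟨F', -, -, hF', hF1', -, -⟩ :=
    exists_traceLike_one hεc hεi hjp' (hdown _ (hts _) hce')
  -- both have the same component
  have hρj' : ρ j' ≠ 0 := by
    intro h0
    have h1 : F j' = 0 := by rw [hFρ, h0, Matrix.trace_zero]
    exact traceLike_ne_zero hM hc hl hF hF' hjp.1 hjp'.1 hF1 hF1' h1
  obtain ⟨a, b, hab⟩ : ∃ a b, ρ j a b ≠ 0 := by
    by_contra hcon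
    push Not at hcon
    have h1 : F j = 0 := by rw [hFρ, show ρ j = 0 from Matrix.ext hcon, Matrix.trace_zero]
    exact zero_ne_one (h1.symm.trans hF1)
  obtain ⟨c', d', hcd⟩ : ∃ a b, ρ j' a b ≠ 0 := by
    by_contra hcon
    push Not at hcon
    exact hρj' (Matrix.ext hcon)
  obtain ⟨x, hx⟩ := hρ (Matrix.single b c' 1)
  obtain ⟨z, hz⟩ := hρ (Matrix.single d' a 1)
  have hFne : F (j * x * j' * z * j) ≠ 0 := by
    have hjj : j * j = j := hjp.1
    rw [hFρ, map_mul, Matrix.trace_mul_comm, ← map_mul, show j * (j * x * j' * z) =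
      j * x * j' * z by simp only [← mul_assoc, hjj], map_mul, map_mul, map_mul, hx, hz,
      Matrix.trace_mul_single, Matrix.mul_apply, Finset.sum_eq_single c']
    · simp only [Matrix.mul_single_apply_same, mul_one, one_smul, MulOpposite.smul_eq_mul_unop,
        MulOpposite.unop_op]
      exact mul_ne_zero hab hcd
    · intro k _ hk
      simp [hk]
    · exact fun h => absurd (Finset.mem_univ _) h
  let τ : fixAlg (ResField M) P →+* MonoidAlgebra (ResField M) G :=
    { toFun := fun a => trunc P (a : MonoidAlgebra (ResField M) G)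
      map_one' := by simp
      map_mul' := fun a b => trunc_mul hP (mem_fixAlg.1 a.2) (mem_fixAlg.1 b.2)
      map_zero' := by simp
      map_add' := fun a b => by simp [trunc_add] }
  have hsup : ∀ s : MonoidAlgebra (ResField M) C,
      SuppIn (Subgroup.centralizer (P : Set G)) (up C s) := fun s => hC ▸ up_suppIn C s
  set X : fixAlg (ResField M) P :=
    ⟨up C x, mem_fixAlg.2 (suppIn_centralizer_conjFixed (hsup x))⟩ with hX
  set Z : fixAlg (ResField M) P :=
    ⟨up C z, mem_fixAlg.2 (suppIn_centralizer_conjFixed (hsup z))⟩ with hZ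
  set w : fixAlg (ResField M) P := y * X * y' * Z * y with hw
  have hτw : τ w = up C (j * x * j' * z * j) := by
    rw [hw, map_mul, map_mul, map_mul, map_mul,
      show τ X = up C x from trunc_eq_self (hsup x), show τ Z = up C z from trunc_eq_self (hsup z),
      up_mul, up_mul, up_mul, up_mul, hj, hj', up_down (hts _), up_down (hts _)]
    rfl
  rcases hy.nilpotent_or_unit (ResField M) (c := w)
    (by rw [hw]; simp only [← mul_assoc, hy.1]) (by rw [hw, mul_assoc, hy.1]) with
    hn | ⟨d, hd1, hd2, hd, -⟩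
  · obtain ⟨k, hk⟩ := hn.map τ
    rw [hτw] at hk
    refine absurd (hF.2.2 _ ⟨k, ?_⟩) hFne
    refine up_injective C ?_
    have hpow : ∀ (a : MonoidAlgebra (ResField M) C) (m : ℕ), up C (a ^ (m + 1)) = up C a ^ (m + 1) := by
      intro a m
      induction m with
      | zero => simp
      | succ m ih => rw [pow_succ, up_mul, ih, ← pow_succ]
    rcases k with _ | k
    · rw [pow_zero] at hk
      exact absurd hk one_ne_zero
    · rw [up_zero, hpow, hk]
  set U : fixAlg (ResField M) P := y * X * y' with hU
  set V : fixAlg (ResField M) P := y' * Z * y * d with hV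
  have huv : U * V = y := by
    calc U * V = y * X * (y' * y') * Z * y * d := by simp only [hU, hV, mul_assoc]
      _ = w * d := by rw [hy'.1, hw]
      _ = y := hd
  refine ⟨U, V, huv, ?_⟩
  have hUy : y * U = U := by rw [hU, ← mul_assoc, ← mul_assoc, hy.1]
  have hVy : y' * V = V := by rw [hV, ← mul_assoc, ← mul_assoc, ← mul_assoc, hy'.1]
  refine (hy'.2.2 (V * U) ?_ (by rw [← mul_assoc, hVy]) ?_).resolve_left ?_
  · rw [mul_assoc, ← mul_assoc U, huv, hUy]
  · rw [mul_assoc, show U * y' = U by rw [hU, mul_assoc, hy'.1]]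
  · intro h0
    apply hy.2.1
    calc y = U * V * (U * V) := by rw [huv, hy.1]
      _ = U * (V * U) * V := by simp only [mul_assoc]
      _ = 0 := by rw [h0, mul_zero, zero_mul]

/-- **Invariance.** -/
theorem val_conj_eq (hM : IsPModular p M) {P : Subgroup G}
    {B : MonoidAlgebra (ResField M) G} {e : MonoidAlgebra (ResField M) G}
    {y : fixAlg (ResField M) P} (hy : Prim y)
    (h : Pointed p B P e (y : MonoidAlgebra (ResField M) G)) {g : G} (hg : g ∈ pairStab P e)
    {θ : G → ℂ} (hθ : IsClassFunction G θ) {x : G} (hx : x ∈ P) :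
    val M θ (g * x * g⁻¹) (y : MonoidAlgebra (ResField M) G) =
      val M θ x (y : MonoidAlgebra (ResField M) G) := by
  obtain ⟨c, hc, hce⟩ := exists_eIn_eq h.pair.pair.block
  have hl : blockRank p c = 1 := by
    obtain ⟨f, hf, htf, hle⟩ := h.exists_block (le_refl P)
    obtain ⟨b, hb, -, htb, hloc, hst⟩ := h.localPointed (le_refl P) rfl
    have hbc : b = c := by
      refine eIn_injective hb hc (hce.symm ▸ ?_)
      refine ((isBlockIdem_eIn hb).eq_of_mul_ne_zero h.pair.pair.block fun h0 => h.top_ne ?_)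
      rw [← htb, mul_assoc, h0, mul_zero]
    subst hbc
    refine (BlockRank.rankOne_of_trivial_inertial hM hb hloc.pair hloc.noExt hloc.comm
      fun z _ => Subgroup.mem_centralizer_iff.2 fun w hw => Subtype.ext ?_).1
    exact Subgroup.mem_centralizer_iff.1 z.2 _ (Subgroup.mem_subgroupOf.1 hw)
  have hgN : g ∈ Subgroup.normalizer (P : Set G) := hg.1
  have hge : conjA g e = e := hg.2
  have hmem : ∀ {g : G}, g ∈ Subgroup.normalizer (P : Set G) →
      ∀ a ∈ fixAlg (ResField M) P, cj g a ∈ fixAlg (ResField M) P := by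
    intro g hg a ha
    refine mem_fixAlg.2 fun v hv s => ?_
    rw [coeff_cj, coeff_cj, show g⁻¹ * (v * s * v⁻¹) * g =
      (g⁻¹ * v * g) * (g⁻¹ * s * g) * (g⁻¹ * v * g)⁻¹ by group]
    refine mem_fixAlg.1 ha _ ?_ _
    have := (Subgroup.mem_normalizer_iff.1 (inv_mem hg) v).1 hv
    rwa [inv_inv] at this
  set y' : fixAlg (ResField M) P := ⟨cj g (y : MonoidAlgebra (ResField M) G), hmem hgN _ y.2⟩
  have hinv : ∀ a : MonoidAlgebra (ResField M) G, cj g (cj g⁻¹ a) = a := fun a => by
    rw [cj_cj, mul_inv_cancel, cj_one]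
  have hinv' : ∀ a : MonoidAlgebra (ResField M) G, cj g⁻¹ (cj g a) = a := fun a => by
    rw [cj_cj, inv_mul_cancel, cj_one]
  have hy' : Prim y' := by
    refine ⟨Subtype.ext ?_, fun h0 => hy.2.1 (Subtype.ext ?_), fun E hE h1 h2 => ?_⟩
    · show cj g _ * cj g _ = cj g _
      rw [← map_mul, show (y : MonoidAlgebra (ResField M) G) * y = y from congrArg Subtype.val hy.1]
    · have := congrArg (cj g⁻¹) (congrArg Subtype.val h0)
      simpa [y', hinv'] using this
    set E' : fixAlg (ResField M) P :=
      ⟨cj g⁻¹ (E : MonoidAlgebra (ResField M) G), hmem (inv_mem hgN) _ E.2⟩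
    have e1 : E' * E' = E' := Subtype.ext (by
      show cj g⁻¹ _ * cj g⁻¹ _ = cj g⁻¹ _
      rw [← map_mul, show (E : MonoidAlgebra (ResField M) G) * E = E from congrArg Subtype.val hE])
    have e2 : y * E' = E' := Subtype.ext (by
      show _ * cj g⁻¹ _ = cj g⁻¹ _
      have := congrArg (fun a : fixAlg (ResField M) P => cj g⁻¹ (a : MonoidAlgebra (ResField M) G)) h1
      simpa [y', hinv'] using this)
    have e3 : E' * y = E' := Subtype.ext (by
      show cj g⁻¹ _ * _ = cj g⁻¹ _
      have := congrArg (fun a : fixAlg (ResField M) P => cj g⁻¹ (a : MonoidAlgebra (ResField M) G)) h2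
      simpa [y', hinv'] using this)
    rcases hy.2.2 E' e1 e2 e3 with h3 | h3
    · left
      refine Subtype.ext ?_
      have := congrArg (fun a : fixAlg (ResField M) P => cj g (a : MonoidAlgebra (ResField M) G)) h3
      simpa [E', hinv] using this
    · right
      refine Subtype.ext ?_
      have := congrArg (fun a : fixAlg (ResField M) P => cj g (a : MonoidAlgebra (ResField M) G)) h3
      simpa [E', hinv, y'] using this
  have htr : trunc P (cj g (y : MonoidAlgebra (ResField M) G)) =
      cj g (trunc P (y : MonoidAlgebra (ResField M) G)) := by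
    ext s
    simp only [coeff_trunc, coeff_cj]
    refine if_congr ?_ rfl rfl
    have := conj_mem_centralizer_iff (P := P) (inv_mem hgN) s
    simpa using this.symm
  obtain ⟨f, hf, htf, -⟩ := h.exists_block (le_refl P)
  have hfe : f = e := hf.eq_of_mul_ne_zero h.pair.pair.block fun h0 => h.top_ne (by
    rw [← htf, mul_assoc, h0, mul_zero])
  subst hfe
  obtain ⟨U, V, hUV, hVU⟩ := exists_swap hM rfl h.pair.pair.pgroup hc hl hy hy'
    (h.trunc_ne le_rfl) (fun h0 => h.trunc_ne le_rfl (by
      have := congrArg (cj g⁻¹) ((htr.symm.trans h0))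
      rwa [hinv', map_zero] at this))
    (by rw [hce, htf]) (by
      show trunc P (cj g _) * _ = trunc P (cj g _)
      rw [hce, htr, ← hge, ← cj_eq_conjA, ← map_mul, htf])
  have hz : ∀ {v : G}, v ∈ P → ∀ a : fixAlg (ResField M) P,
      (a : MonoidAlgebra (ResField M) G) ∈ fixAlg (ResField M) (Subgroup.zpowers v) := fun hv a =>
    fixAlg_anti (Subgroup.zpowers_le.2 hv) a.2
  have hgx : g * x * g⁻¹ ∈ P := (Subgroup.mem_normalizer_iff.1 hgN x).1 hx
  have e1 : (U : MonoidAlgebra (ResField M) G) * V = y := congrArg Subtype.val hUV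
  have e2 : (V : MonoidAlgebra (ResField M) G) * U = cj g (y : MonoidAlgebra (ResField M) G) :=
    congrArg Subtype.val hVU
  conv_lhs => rw [← e1]
  rw [val_mul_comm hM hθ (hz hgx U) (hz hgx V) (by rw [IsIdempotentElem, e1]; exact h.idem)
      (by rw [IsIdempotentElem, e2, ← map_mul, h.idem]), e2,
    val_conj hM hθ g x (hz hx y) h.idem]

end CfsgLib.FreeInertial
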