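import Cfsg.Agent.Lib.FreeInertial.Weight

/-!
# The lattice of a family of generalized characters orthogonal over free orbits

A family of generalized characters of an abelian `p`-group whose values are orthogonal over the
orbits of a freely acting group of automorphisms gives integer vectors with products `δ + n`.
-/

set_option autoImplicit false
set_option maxHeartbeats 1000000

open Cfsg CfsgLib.Blk83.FreeOrbit
open scoped Classical ComplexConjugate

namespace CfsgLib.FreeInertial

universe u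

variable {A : Type u} [CommGroup A] [Fintype A] {ι : Type u} [Fintype ι]

/-- The integer vectors. -/
theorem exists_lattice {p : ℕ} [Fact p.Prime] (hA : IsPGroup p A) (T : Subgroup (MulAut A))
    (hT : ∀ a : T, a ≠ 1 → ∀ y : A, (a : MulAut A) y = y → y = 1) [Fintype T] [Fintype (Orb T)]
    (hA1 : 1 < Nat.card A) (W : A → ℤ) (hW : IsGeneralizedCharacter A fun x => (W x : ℂ))
    (hWu : ∀ u, u ≠ 1 → ¬ (p : ℤ) ∣ W u)
    (hWinv : ∀ (a : T) (u : A), u ≠ 1 → W ((a : MulAut A) u) = W u) (F : ι → A → ℂ)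
    (hF : ∀ i, IsGeneralizedCharacter A (F i))
    (hFinv : ∀ i (a : T) (u : A), u ≠ 1 → F i ((a : MulAut A) u) = F i u)
    (hint : ∀ i u, u ≠ 1 → IsIntegral ℤ (F i u / (W u : ℂ)))
    (hne : ∀ i u, u ≠ 1 → F i u ≠ 0)
    (horth : ∀ u v, u ≠ 1 → v ≠ 1 → ∑ i, F i u * conj (F i v) =
      if ∃ a : T, (a : MulAut A) u = v then (W u : ℂ) ^ 2 * (Nat.card A : ℂ) else 0) :
    ∃ a : Orb T → ι → ℤ,
      (∀ q r, ∑ i, a q i * a r i = (if q = r then 1 else 0) + (Nat.card T : ℤ)) ∧
      ∀ i, ∃ q, a q i ≠ 0 := by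
  have hp : p.Prime := Fact.out
  haveI := finite_dual (A := A)
  haveI := Fintype.ofFinite (A →* ℂˣ)
  set X : ι → A → ℂ := fun i u => if u = 1 then 0 else F i u / (W u : ℂ) with hX
  set S : ι → (A →* ℂˣ) → ℂ := fun i ψ => fsum (X i) ψ with hS
  have hW0 : ∀ {u}, u ≠ 1 → (W u : ℂ) ≠ 0 := fun {u} hu =>
    Int.cast_ne_zero.2 fun h0 => hWu u hu (h0 ▸ dvd_zero _)
  have hXint : ∀ i u, IsIntegral ℤ (X i u) := fun i u => by
    simp only [hX]; split_ifs with h
    · exact isIntegral_zero
    · exact hint i u h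
  have hSint : ∀ i ψ, IsIntegral ℤ (S i ψ) := fun i ψ =>
    IsIntegral.sum _ fun u _ => (hXint i u).mul (isIntegral_conj (isIntegral_lam ψ u))
  obtain ⟨N, Z, hZ, hN, hN0, hVZ⟩ := exists_clear hp hA W hW (Finset.univ.erase 1)
    fun u hu => hWu u (Finset.ne_of_mem_erase hu)
  have hA0 : (Nat.card A : ℂ) ≠ 0 := Nat.cast_ne_zero.2 Nat.card_pos.ne'
  have hz : ∀ i ψ, ∃ a : ℤ, S i ψ - S i 1 = (Nat.card A : ℂ) * a := by
    intro i ψ
    have hG := CfsgLib.Char.IsGeneralizedCharacter.mul (hF i) hZ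
    have key : ∀ ψ : A →* ℂˣ, (N : ℂ) * S i ψ + F i 1 * Z 1 =
        fsum (fun u => F i u * Z u) ψ := by
      intro ψ
      simp only [hS, fsum, Finset.mul_sum]
      rw [← Finset.add_sum_erase _ _ (Finset.mem_univ (1 : A)),
        ← Finset.add_sum_erase (a := (1 : A)) (f := fun u => F i u * Z u * conj (ψ u : ℂ)) _
          (Finset.mem_univ _),
        Finset.sum_congr rfl (g := fun u => F i u * Z u * conj (ψ u : ℂ)) fun u hu => ?_]
      · simp [hX]
      · have hu1 := Finset.ne_of_mem_erase hu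
        simp only [hX, if_neg hu1]
        rw [← hVZ u hu]
        field_simp [hW0 hu1]
    obtain ⟨z, hz⟩ := exists_int_fsum hG ψ
    obtain ⟨z', hz'⟩ := exists_int_fsum hG (1 : A →* ℂˣ)
    have h1 : (N : ℂ) * (S i ψ - S i 1) = (Nat.card A : ℂ) * ((z - z' : ℤ) : ℂ) := by
      push_cast
      linear_combination (key ψ) + hz - (key 1) - hz'
    set w := (S i ψ - S i 1) / (Nat.card A : ℂ) with hw
    have hwS : S i ψ - S i 1 = (Nat.card A : ℂ) * w := by rw [hw, mul_div_cancel₀ _ hA0]
    have hNw : (N : ℂ) * w = ((z - z' : ℤ) : ℂ) := by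
      refine mul_left_cancel₀ hA0 ?_
      rw [← h1, hwS]; ring
    obtain ⟨x, y, hxy⟩ := hN
    have hwi : IsIntegral ℤ w := by
      have e : w = (x : ℂ) * ((z - z' : ℤ) : ℂ) + (y : ℂ) * (S i ψ - S i 1) := by
        have h1 : (x : ℂ) * N + (y : ℂ) * (Nat.card A : ℂ) = 1 := by exact_mod_cast hxy
        linear_combination (x : ℂ) * hNw - w * h1 - (y : ℂ) * hwS
      rw [e]
      exact (isIntegral_algebraMap.mul isIntegral_algebraMap).add
        (isIntegral_algebraMap.mul ((hSint i ψ).sub (hSint i 1)))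
    have hq : w = ((((z - z' : ℤ) : ℚ) / N : ℚ) : ℂ) := by
      push_cast
      rw [eq_div_iff (Int.cast_ne_zero.2 hN0), mul_comm, hNw]
      push_cast
      ring
    rw [hq] at hwi
    obtain ⟨k, hk⟩ := CfsgLib.Char.exists_int_of_isIntegral_ratCast hwi
    exact ⟨k, by rw [hwS, hq, ← hk]; simp⟩
  choose a ha using hz
  -- the products
  have horthX : ∀ u v, ∑ i, X i u * conj (X i v) =
      if u = 1 ∨ v = 1 then 0 else ∑ t : T, if (t : MulAut A) u = v then (Nat.card A : ℂ) else 0 := by
    intro u v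
    split_ifs with h
    · refine Finset.sum_eq_zero fun i _ => ?_
      rcases h with h | h <;> simp [hX, h]
    push Not at h
    simp only [hX, if_neg h.1, if_neg h.2, map_div₀, map_intCast, div_mul_div_comm,
      ← Finset.sum_div, horth u v h.1 h.2]
    by_cases hex : ∃ t : T, (t : MulAut A) u = v
    · obtain ⟨t₀, ht₀⟩ := hex
      rw [if_pos ⟨t₀, ht₀⟩, Finset.sum_eq_single t₀ (fun t _ hne' => if_neg fun ht => ?_)
        (fun h => absurd (Finset.mem_univ _) h), if_pos ht₀,
        show W v = W u by rw [← ht₀, hWinv t₀ u h.1]]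
      · field_simp [hW0 h.1]
      · refine h.1 (hT (t₀⁻¹ * t) (fun e => hne' (inv_mul_eq_one.1 e).symm) u ?_)
        rw [Subgroup.coe_mul, MulAut.mul_apply, ht, ← ht₀, Subgroup.coe_inv, MulAut.inv_apply,
          MulEquiv.symm_apply_apply]
    · rw [if_neg hex, zero_div]
      exact (Finset.sum_eq_zero fun t _ => if_neg fun ht => hex ⟨t, ht⟩).symm
  have hsumψ : ∀ ψ φ : A →* ℂˣ, ψ ≠ 1 → φ ≠ 1 →
      ∑ u : A, (conj (ψ u : ℂ) - 1) * ((φ u : ℂ) - 1) =
        (Nat.card A : ℂ) * ((if φ = ψ then 1 else 0) + 1) := by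
    intro ψ φ hψ hφ
    have e : ∀ u : A, (conj (ψ u : ℂ) - 1) * ((φ u : ℂ) - 1) =
        ((φ * ψ⁻¹) u : ℂ) - conj (ψ u : ℂ) - (φ u : ℂ) + 1 := fun u => by
      rw [MonoidHom.mul_apply, MonoidHom.inv_apply, Units.val_mul, ← map_inv, ← conj_apply]
      ring
    simp only [e, Finset.sum_add_distrib, Finset.sum_sub_distrib, ← map_sum, sum_elem, if_neg hψ,
      if_neg hφ, mul_inv_eq_one (G := A →* ℂˣ), map_zero, Finset.sum_const, Finset.card_univ, nsmul_eq_mul,
      mul_one, Nat.card_eq_fintype_card]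
    split_ifs <;> ring
  have hdiff : ∀ i ψ, S i ψ - S i 1 = ∑ u, X i u * (conj (ψ u : ℂ) - 1) := by
    intro i ψ
    simp only [hS, fsum, MonoidHom.one_apply, Units.val_one, map_one, mul_one, mul_sub,
      Finset.sum_sub_distrib]
  have hprod : ∀ ψ φ : A →* ℂˣ, ψ ≠ 1 → φ ≠ 1 → ∑ i, (S i ψ - S i 1) * conj (S i φ - S i 1) =
      (Nat.card A : ℂ) ^ 2 *
        ((∑ t : T, if act φ (t : MulAut A) = ψ then (1 : ℂ) else 0) + Nat.card T) := by
    intro ψ φ hψ hφ
    have e1 : ∀ i, (S i ψ - S i 1) * conj (S i φ - S i 1) =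
        ∑ u, ∑ v, (X i u * conj (X i v)) * ((conj (ψ u : ℂ) - 1) * ((φ v : ℂ) - 1)) := by
      intro i
      rw [hdiff, hdiff, map_sum, Finset.sum_mul_sum]
      refine Finset.sum_congr rfl fun u _ => Finset.sum_congr rfl fun v _ => ?_
      rw [map_mul, map_sub, Complex.conj_conj, map_one]
      ring
    simp only [e1]
    rw [Finset.sum_comm]
    calc ∑ u, ∑ i, ∑ v, X i u * conj (X i v) * ((conj (ψ u : ℂ) - 1) * ((φ v : ℂ) - 1))
        = ∑ u, ∑ t : T, (Nat.card A : ℂ) *
            ((conj (ψ u : ℂ) - 1) * ((act φ (t : MulAut A) u : ℂ) - 1)) := by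
          refine Finset.sum_congr rfl fun u _ => ?_
          rw [Finset.sum_comm]
          simp only [← Finset.sum_mul, horthX]
          by_cases hu : u = 1
          · simp [hu]
          have e2 : ∀ v : A, ((if u = 1 ∨ v = 1 then 0 else
              ∑ t : T, if (t : MulAut A) u = v then (Nat.card A : ℂ) else 0) *
                ((conj (ψ u : ℂ) - 1) * ((φ v : ℂ) - 1))) =
              ∑ t : T, if (t : MulAut A) u = v then
                (Nat.card A : ℂ) * ((conj (ψ u : ℂ) - 1) * ((φ v : ℂ) - 1)) else 0 := by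
            intro v
            by_cases hv : v = 1
            · simp [hv]
            · rw [if_neg (not_or.2 ⟨hu, hv⟩), Finset.sum_mul]
              exact Finset.sum_congr rfl fun t _ => by rw [ite_mul, zero_mul]
          simp only [e2]
          rw [Finset.sum_comm]
          exact Finset.sum_congr rfl fun t _ => by simp
      _ = ∑ t : T, (Nat.card A : ℂ) * ((Nat.card A : ℂ) *
            ((if act φ (t : MulAut A) = ψ then 1 else 0) + 1)) := by
          rw [Finset.sum_comm]
          exact Finset.sum_congr rfl fun t _ => by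
            rw [← Finset.mul_sum, hsumψ ψ _ hψ (act_ne_one hφ _)]
      _ = _ := by
          simp only [mul_add, Finset.mul_sum, Finset.sum_add_distrib]
          congr 1
          · exact Finset.sum_congr rfl fun t _ => by ring
          · simp [Nat.card_eq_fintype_card]; ring
  have hSact : ∀ i (ψ : A →* ℂˣ) (t : T), S i (act ψ (t : MulAut A)) = S i ψ := by
    intro i ψ t
    simp only [hS, fsum]
    refine Fintype.sum_equiv (t : MulAut A).toEquiv _ _ fun u => ?_
    show X i u * conj (ψ ((t : MulAut A) u) : ℂ) =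
      X i ((t : MulAut A) u) * conj (ψ ((t : MulAut A) u) : ℂ)
    congr 1
    by_cases hu : u = 1
    · simp [hX, hu]
    · simp [hX, hu, hFinv i t u hu, hWinv t u hu]
  refine ⟨fun q i => a i (rep T q), fun q r => ?_, fun i => ?_⟩
  · have h := hprod (rep T q) (rep T r) (rep_ne_one T q) (rep_ne_one T r)
    have horb : (∑ t : T, if act (rep T r) (t : MulAut A) = rep T q then (1 : ℂ) else 0) =
        if q = r then 1 else 0 := by
      have hiff : ∀ t : T, act (rep T r) (t : MulAut A) = rep T q ↔ q = r ∧ t = 1 := by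
        intro t
        constructor
        · intro he
          have h3 := (bijective_orb_act T hT).1 (a₁ := (r, t)) (a₂ := (q, 1)) (Subtype.ext he)
          exact ⟨(congrArg Prod.fst h3).symm, congrArg Prod.snd h3⟩
        · rintro ⟨rfl, rfl⟩; rfl
      rw [Finset.sum_congr rfl fun t _ => if_congr (hiff t) rfl rfl]
      by_cases hqr : q = r
      · simp [hqr]
      · simp [hqr]
    have hcast : ((∑ i, a i (rep T q) * a i (rep T r) : ℤ) : ℂ) =
        (((if q = r then 1 else 0) + (Nat.card T : ℤ) : ℤ) : ℂ) := by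
      refine mul_left_cancel₀ (pow_ne_zero 2 hA0) ?_
      push_cast
      rw [Finset.mul_sum]
      refine (Finset.sum_congr rfl fun i _ => ?_).trans (h.trans (by rw [horb]))
      rw [ha, ha, map_mul, map_natCast, map_intCast]
      ring
    exact_mod_cast hcast
  · by_contra hcon
    push Not at hcon
    haveI : Nontrivial A := Finite.one_lt_card_iff_nontrivial.1 hA1
    obtain ⟨u, hu⟩ := exists_ne (1 : A)
    have hall : ∀ ψ : A →* ℂˣ, S i ψ = S i 1 := by
      intro ψ
      by_cases hψ : ψ = 1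
      · rw [hψ]
      obtain ⟨t, ht⟩ := exists_act_rep T ψ hψ
      rw [← ht, hSact, ← sub_eq_zero, ha, hcon]
      simp
    have h1 := card_mul_eq_sum (X i) u
    simp only [← show ∀ ψ, S i ψ = fsum (X i) ψ from fun _ => rfl, hall, ← Finset.mul_sum,
      sum_dual, if_neg hu, mul_zero] at h1
    have h2 := (mul_eq_zero.1 h1).resolve_left hA0
    simp only [hX, if_neg hu, div_eq_zero_iff] at h2
    exact h2.elim (hne i u hu) (hW0 hu)

end CfsgLib.FreeInertial
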