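import Cfsg.Agent.Lib.FreeInertial.Normalize

/-!
# Gluing along joins of subgroups

If for every nontrivial subgroup `Q` the absolute values `m (Q ⊔ ⟨x⟩)` are those of a generalized
character then so are the absolute values `m ⟨x⟩` on the nontrivial elements: the Möbius function
of the subgroup lattice sums to zero over the subgroups with a given join with a fixed one.
-/

set_option autoImplicit false
set_option maxHeartbeats 800000

open Cfsg
open scoped Classical ComplexConjugate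

namespace CfsgLib.FreeInertial

universe u

variable {A : Type u} [CommGroup A] [Fintype A]

/-- The Möbius function from the trivial subgroup. -/
noncomputable def mob : Subgroup A → ℤ :=
  (wellFounded_lt (α := Subgroup A)).fix fun Q rec =>
    if Q = ⊥ then 1 else -∑ R : {R : Subgroup A // R < Q}, rec R.1 R.2

theorem mob_eq (Q : Subgroup A) :
    mob Q = if Q = ⊥ then 1 else -∑ R : {R : Subgroup A // R < Q}, mob R.1 :=
  WellFounded.fix_eq _ _ Q

theorem sum_mob (R : Subgroup A) :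
    ∑ Q ∈ Finset.univ.filter (fun Q => Q ≤ R), mob Q = if R = ⊥ then 1 else 0 := by
  have hsub : ∑ Q ∈ Finset.univ.filter (fun Q => Q ≤ R), mob Q =
      mob R + ∑ Q : {Q : Subgroup A // Q < R}, mob Q.1 := by
    rw [← Finset.add_sum_erase (Finset.univ.filter fun Q : Subgroup A => Q ≤ R) _
      (Finset.mem_filter.2 ⟨Finset.mem_univ R, le_rfl⟩),
      Finset.sum_subtype (p := fun Q : Subgroup A => Q < R) _ fun Q => by
        simp [lt_iff_le_and_ne, and_comm]]
  rw [hsub]
  conv_lhs => arg 1; rw [mob_eq]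
  split_ifs with h
  · subst h
    have : IsEmpty {Q : Subgroup A // Q < ⊥} := ⟨fun Q => not_lt_bot Q.2⟩
    simp
  · ring

/-- Weisner: the Möbius function sums to zero over a given join with a nontrivial subgroup. -/
theorem sum_mob_sup {X : Subgroup A} (hX : X ≠ ⊥) (R : Subgroup A) :
    ∑ Q ∈ Finset.univ.filter (fun Q => Q ⊔ X = R), mob Q = 0 := by
  induction hn : Nat.card R using Nat.strong_induction_on generalizing R with
  | _ n ih =>
  subst hn
  by_cases hXR : X ≤ R
  swap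
  · refine Finset.sum_eq_zero fun Q hQ => absurd ((Finset.mem_filter.1 hQ).2 ▸ le_sup_right) hXR
  have hall : ∑ R' ∈ Finset.univ.filter (fun R' => R' ≤ R),
      ∑ Q ∈ Finset.univ.filter (fun Q => Q ⊔ X = R'), mob Q = 0 := by
    rw [Finset.sum_congr rfl fun R' hR' => ?_,
      Finset.sum_fiberwise_of_maps_to (s := Finset.univ.filter fun Q => Q ⊔ X ≤ R)
        (t := Finset.univ.filter fun R' => R' ≤ R) (g := fun Q => Q ⊔ X) (fun Q hQ => by simpa using hQ),
      show (Finset.univ.filter fun Q => Q ⊔ X ≤ R) = Finset.univ.filter fun Q => Q ≤ R by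
        simp [hXR],
      sum_mob, if_neg fun h => hX (eq_bot_iff.2 (hXR.trans h.le))]
    refine Finset.sum_congr (Finset.ext fun Q => ?_) fun _ _ => rfl
    simp only [Finset.mem_filter, Finset.mem_univ, true_and]
    exact ⟨fun h => ⟨h ▸ (Finset.mem_filter.1 hR').2, h⟩, fun h => h.2⟩
  rw [← Finset.add_sum_erase (Finset.univ.filter fun R' : Subgroup A => R' ≤ R) _
      (Finset.mem_filter.2 ⟨Finset.mem_univ R, le_rfl⟩),
    Finset.sum_eq_zero (s := (Finset.univ.filter fun R' : Subgroup A => R' ≤ R).erase R) fun R' hR' => ?_,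
    add_zero] at hall
  · exact hall
  · obtain ⟨hne, hle⟩ := Finset.mem_erase.1 hR'
    have hle := (Finset.mem_filter.1 hle).2
    exact ih _ (lt_of_le_of_ne (Subgroup.card_le_of_le hle) fun h =>
      hne (Subgroup.eq_of_le_of_card_ge hle h.ge)) R' rfl

variable {p : ℕ} [Fact p.Prime] {M : Ideal AlgInt} [M.IsMaximal]

/-- **Gluing.** -/
theorem exists_glue (hM : IsPModular p M) (hA : IsPGroup p A) (m : Subgroup A → ℕ)
    (hm : ∀ R, R ≠ ⊥ → ¬ p ∣ m R)
    (hF : ∀ Q : Subgroup A, Q ≠ ⊥ → ∃ F : A → ℂ, IsGeneralizedCharacter A F ∧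
      (∀ x, F x * conj (F x) = (m (Q ⊔ Subgroup.zpowers x) : ℂ) ^ 2) ∧
      ∀ x, IsIntegral ℤ (F x / (m (Q ⊔ Subgroup.zpowers x) : ℂ))) :
    ∃ (W : A → ℤ) (c : ℤ), IsGeneralizedCharacter A (fun x => (W x : ℂ)) ∧
      ∀ x, x ≠ 1 → (W x).natAbs = m (Subgroup.zpowers x) ∧ qmod p ∣ W x - c := by
  have hp : p.Prime := Fact.out
  have hne : ∀ {Q : Subgroup A} (R : Subgroup A), Q ≠ ⊥ → Q ⊔ R ≠ ⊥ := fun R hQ h =>
    hQ (eq_bot_iff.2 (le_sup_left.trans h.le))
  have hV : ∀ Q : Subgroup A, Q ≠ ⊥ → ∃ V : A → ℤ, IsGeneralizedCharacter A (fun x => (V x : ℂ)) ∧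
      (∀ x, (V x).natAbs = m (Q ⊔ Subgroup.zpowers x)) ∧ ∀ x, qmod p ∣ V x - V 1 := fun Q hQ => by
    obtain ⟨F, hF1, hF2, hF3⟩ := hF Q hQ
    exact exists_normalized hM hA hF1 _ hF2 (fun x => hm _ (hne _ hQ)) hF3
  choose V hVgen hVabs hVq using hV
  set c : ℤ := (m ⊤ : ℤ) with hc
  have hVone : ∀ (Q : Subgroup A) (hQ : Q ≠ ⊥), (V Q hQ 1).natAbs = m Q := fun Q hQ => by
    rw [hVabs, Subgroup.zpowers_one_eq_bot, sup_bot_eq]
  -- the signed values
  have hs : ∀ R : Subgroup A, R ≠ ⊥ → ∃ s : ℤ, s.natAbs = m R ∧ qmod p ∣ s - c := by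
    intro R hR
    induction hn : Nat.card A - Nat.card R using Nat.strong_induction_on generalizing R with
    | _ n ih =>
    subst hn
    by_cases htop : R = ⊤
    · exact ⟨c, by simp [hc, htop], by simp⟩
    obtain ⟨x, -, hx⟩ := SetLike.exists_of_lt (lt_top_iff_ne_top.2 htop)
    set R' := R ⊔ Subgroup.zpowers x with hR'
    have hlt : R < R' := lt_of_le_of_ne le_sup_left fun h =>
      hx (h.ge (Subgroup.mem_sup_right (Subgroup.mem_zpowers x)))
    have hcard : Nat.card R < Nat.card R' := lt_of_le_of_ne (Subgroup.card_le_of_le hlt.le) fun h =>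
      hlt.ne (Subgroup.eq_of_le_of_card_ge hlt.le h.ge)
    have hle : Nat.card R' ≤ Nat.card A := Subgroup.card_le_card_group R'
    obtain ⟨s', hs', hs'c⟩ := ih _ (by omega) R' (hne _ hR) rfl
    have hq := hVq R hR x
    rcases Int.natAbs_eq_natAbs_iff.1 (show s'.natAbs = (V R hR x).natAbs by rw [hs', hVabs])
      with h | h
    · refine ⟨V R hR 1, hVone R hR, ?_⟩
      have := dvd_sub hs'c hq
      rw [h] at this
      obtain ⟨k, hk⟩ := this
      exact ⟨k, by linarith⟩
    · refine ⟨-V R hR 1, by rw [Int.natAbs_neg, hVone], ?_⟩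
      have := dvd_add hs'c hq
      rw [h] at this
      obtain ⟨k, hk⟩ := this
      exact ⟨k, by linarith⟩
  choose s hsabs hsq using hs
  have hsu : ∀ (R : Subgroup A) (hR : R ≠ ⊥), ¬ (p : ℤ) ∣ s R hR := fun R hR h =>
    hm R hR (by rw [← hsabs R hR, ← Int.natCast_dvd]; exact h)
  let S : Subgroup A → ℤ := fun R => if h : R ≠ ⊥ then s R h else 0
  -- the signed generalized characters
  have hVs : ∀ (Q : Subgroup A), Q ≠ ⊥ → ∃ F : A → ℂ, IsGeneralizedCharacter A F ∧
      ∀ x, F x = (S (Q ⊔ Subgroup.zpowers x) : ℂ) := by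
    intro Q hQ
    obtain ⟨t, ht, ht1⟩ : ∃ t : ℤ, (t = 1 ∨ t = -1) ∧ t * V Q hQ 1 = s Q hQ := by
      rcases Int.natAbs_eq_natAbs_iff.1
        (show (s Q hQ).natAbs = (V Q hQ 1).natAbs by rw [hsabs, hVone]) with h | h
      · exact ⟨1, Or.inl rfl, by rw [h, one_mul]⟩
      · exact ⟨-1, Or.inr rfl, by rw [h, neg_one_mul]⟩
    refine ⟨_, CfsgLib.Char.IsGeneralizedCharacter.intCast_smul (hVgen Q hQ) t, fun x => ?_⟩
    simp only [Pi.smul_apply, smul_eq_mul, S, dif_pos (hne (Subgroup.zpowers x) hQ)]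
    rw [← Int.cast_mul, Int.cast_inj]
    symm
    refine eq_of_natAbs_eq_of_dvd hp ?_ ?_ (hsu _ _)
    · rw [hsabs, Int.natAbs_mul, hVabs]
      rcases ht with rfl | rfl <;> simp
    · have h1 := dvd_sub (hsq (Q ⊔ Subgroup.zpowers x) (hne _ hQ))
        (dvd_add ((hVq Q hQ x).mul_left t) (hsq Q hQ))
      rw [← ht1] at h1
      obtain ⟨k, hk⟩ := h1
      exact ⟨k, by linarith⟩
  choose! F hFgen hFval using hVs
  let W : A → ℤ := fun x => -∑ Q ∈ Finset.univ.filter (fun Q : Subgroup A => Q ≠ ⊥),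
    mob Q * S (Q ⊔ Subgroup.zpowers x)
  refine ⟨W, c, ?_, fun x hx => ?_⟩
  · have h := CfsgLib.Char.IsGeneralizedCharacter.neg
      (CfsgLib.Char.IsGeneralizedCharacter.sum (Finset.univ.filter fun Q : Subgroup A => Q ≠ ⊥)
        (fun Q => (mob Q : ℂ) • F Q) fun Q hQ =>
        CfsgLib.Char.IsGeneralizedCharacter.intCast_smul (hFgen Q (Finset.mem_filter.1 hQ).2) _)
    convert h using 1
    funext x
    simp only [W, Int.cast_neg, Int.cast_sum, Int.cast_mul, Pi.neg_apply, Finset.sum_apply,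
      Pi.smul_apply, smul_eq_mul]
    congr 1
    exact Finset.sum_congr rfl fun Q hQ => by rw [hFval Q (Finset.mem_filter.1 hQ).2]
  have hX : Subgroup.zpowers x ≠ ⊥ := by rwa [Ne, Subgroup.zpowers_eq_bot]
  have hzero : ∑ Q : Subgroup A, mob Q * S (Q ⊔ Subgroup.zpowers x) = 0 := by
    rw [← Finset.sum_fiberwise Finset.univ (fun Q => Q ⊔ Subgroup.zpowers x)]
    refine Finset.sum_eq_zero fun R _ => ?_
    rw [Finset.sum_congr rfl fun Q hQ => by rw [(Finset.mem_filter.1 hQ).2], ← Finset.sum_mul,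
      sum_mob_sup hX R, zero_mul]
  have hW : W x = s _ hX := by
    rw [← Finset.add_sum_erase _ _ (Finset.mem_univ (⊥ : Subgroup A))] at hzero
    have hb : mob (⊥ : Subgroup A) = 1 := by rw [mob_eq, if_pos rfl]
    rw [hb, one_mul, bot_sup_eq] at hzero
    have hS : S (Subgroup.zpowers x) = s _ hX := dif_pos hX
    simp only [W, Finset.filter_ne']
    linarith
  rw [hW]
  exact ⟨hsabs _ hX, hsq _ hX⟩

end CfsgLib.FreeInertial
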