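import Cfsg.Agent.Lib.FreeInertial.PointValue
import Cfsg.Agent.Lib.FreeInertial.Weisner

/-!
# The weight of a block with free inertial quotient

Below a pair with freely acting inertial quotient the levels at the nontrivial points are prime to
`p` and, up to sign, the values of an integer valued generalized character of the defect group.
-/

set_option autoImplicit false
set_option maxHeartbeats 1600000
set_option synthInstance.maxHeartbeats 400000

open Cfsg CfsgLib.Blocks CfsgLib.Blocks.Pairs CfsgLib.BlockStar Polynomial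
open scoped Classical ComplexConjugate

namespace CfsgLib.FreeInertial

universe u

/-- As many nonzero cyclotomic integers as the sum of their squared absolute values all have
absolute value one. -/
theorem normSq_eq_one_of_sum_eq_card {n : ℕ} {ζ : ℂ} (hn : 0 < n) (hζ : IsPrimitiveRoot ζ n)
    {ι : Type*} [Fintype ι] (P : ι → ℤ[X]) (hP : ∀ i, aeval ζ (P i) ≠ 0)
    (hN : ∑ i, aeval ζ (P i) * conj (aeval ζ (P i)) = (Fintype.card ι : ℂ)) (i : ι) :
    aeval ζ (P i) * conj (aeval ζ (P i)) = 1 := by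
  let Q : ℤ[X] := ∑ i, P i * (P i).comp (X ^ (n - 1))
  have hQ : ∀ w : ℂ, IsPrimitiveRoot w n →
      aeval w Q = ((∑ i, Complex.normSq (aeval w (P i)) : ℝ) : ℂ) := by
    intro w hw
    rw [map_sum, Complex.ofReal_sum]
    refine Finset.sum_congr rfl fun i _ => ?_
    have hnorm : ‖w‖ = 1 := Complex.norm_eq_one_of_pow_eq_one hw.pow_eq_one hn.ne'
    have hinv : w ^ (n - 1) = conj w := by
      rw [← Complex.inv_eq_conj hnorm]
      refine eq_inv_of_mul_eq_one_left ?_
      rw [← pow_succ, Nat.sub_add_cancel hn, hw.pow_eq_one]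
    rw [map_mul, aeval_comp, map_pow, aeval_X, hinv, ← Complex.mul_conj]
    congr 1
    exact (Polynomial.aeval_algHom_apply (Complex.conjAe.toAlgHom.restrictScalars ℤ) w (P i))
  have hsum : ∀ w ∈ primitiveRoots n ℂ,
      (∑ i, Complex.normSq (aeval w (P i)) : ℝ) = (Fintype.card ι : ℝ) := by
    intro w hw
    have h0 : aeval ζ Q = ((Fintype.card ι : ℚ) : ℂ) := by
      rw [hQ ζ hζ, Complex.ofReal_sum, Rat.cast_natCast, ← hN]
      exact Finset.sum_congr rfl fun i _ => (Complex.mul_conj _).symm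
    have h1 := CfsgLib.CharPower.aeval_eq_of_rat hn hζ ((mem_primitiveRoots hn).mp hw) Q _ h0
    rw [hQ w ((mem_primitiveRoots hn).mp hw)] at h1
    exact_mod_cast h1
  set m := (primitiveRoots n ℂ).card with hm
  have hi : ∀ i, (m : ℝ) ≤ ∑ w ∈ primitiveRoots n ℂ, Complex.normSq (aeval w (P i)) :=
    fun i => BlockRank.card_le_sum_normSq hn hζ (P i) (hP i)
  have htot : ∑ _i : ι, (m : ℝ) =
      ∑ i, ∑ w ∈ primitiveRoots n ℂ, Complex.normSq (aeval w (P i)) := by
    rw [Finset.sum_comm, Finset.sum_congr rfl hsum, Finset.sum_const, Finset.sum_const,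
      nsmul_eq_mul, nsmul_eq_mul, ← hm, Finset.card_univ, mul_comm]
  have heq := (Finset.sum_eq_sum_iff_of_le fun i _ => hi i).1 htot i (Finset.mem_univ i)
  -- the product is a positive integer, so all the factors are one
  have hne : ∀ w ∈ primitiveRoots n ℂ, aeval w (P i) ≠ 0 := by
    intro w hw h0
    have h1 := CfsgLib.CharPower.aeval_eq_of_rat hn ((mem_primitiveRoots hn).mp hw) hζ (P i) 0
      (by simpa using h0)
    exact hP i (by simpa using h1)
  obtain ⟨z, hz⟩ := BlockRank.prod_primitiveRoots_aeval_int hn hζ (P i)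
  have hz0 : z ≠ 0 := fun h0 => by
    rw [h0, Int.cast_zero, Finset.prod_eq_zero_iff] at hz
    obtain ⟨w, hw, hw0⟩ := hz
    exact hne w hw hw0
  have hprod : (1 : ℝ) ≤ ∏ w ∈ primitiveRoots n ℂ, Complex.normSq (aeval w (P i)) := by
    rw [← map_prod, hz, Complex.normSq_intCast, ← sq, ← Int.cast_pow]
    exact_mod_cast (show (0 : ℤ) < z ^ 2 by positivity)
  have hlog := Real.log_nonneg hprod
  rw [Real.log_prod (fun w hw => (Complex.normSq_pos.mpr (hne w hw)).ne')] at hlog
  have hle : ∀ w ∈ primitiveRoots n ℂ,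
      Real.log (Complex.normSq (aeval w (P i))) ≤ Complex.normSq (aeval w (P i)) - 1 := fun w hw =>
    Real.log_le_sub_one_of_pos (Complex.normSq_pos.mpr (hne w hw))
  have htot2 : ∑ w ∈ primitiveRoots n ℂ, Real.log (Complex.normSq (aeval w (P i))) =
      ∑ w ∈ primitiveRoots n ℂ, (Complex.normSq (aeval w (P i)) - 1) := by
    refine le_antisymm (Finset.sum_le_sum hle) ?_
    rw [Finset.sum_sub_distrib, ← heq, Finset.sum_const, nsmul_eq_mul, mul_one, ← hm]
    linarith
  have hζm : ζ ∈ primitiveRoots n ℂ := (mem_primitiveRoots hn).mpr hζ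
  have h1 := (Finset.sum_eq_sum_iff_of_le hle).1 htot2 ζ hζm
  have h2 : Complex.normSq (aeval ζ (P i)) = 1 := by
    by_contra h
    exact (Real.log_lt_sub_one_of_pos (Complex.normSq_pos.mpr (hP i)) h).ne h1
  rw [Complex.mul_conj, h2, Complex.ofReal_one]

variable {G : Type u} [Group G] [Fintype G] {p : ℕ} [Fact p.Prime] {M : Ideal AlgInt}
  [M.IsMaximal] [CharP (ResField M) p]

/-- Lifts of the Brauer images of `i` at the subgroups of `P`. -/
def IsLifting (P : Subgroup G) (i : MonoidAlgebra (ResField M) G)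
    (a : Subgroup G → MonoidAlgebra (locRing M) G) : Prop :=
  ∀ R ≤ P, a R * a R = a R ∧ (∀ s, s ∉ Subgroup.centralizer (R : Set G) → (a R).coeff s = 0) ∧
    redA M (a R) = trunc R i

theorem exists_lifting {B e i : MonoidAlgebra (ResField M) G} {P : Subgroup G}
    (h : Pointed p B P e i) : ∃ a : Subgroup G → MonoidAlgebra (locRing M) G, IsLifting P i a := by
  have hex : ∀ R, R ≤ P → ∃ a : MonoidAlgebra (locRing M) G, a * a = a ∧
      (∀ s, s ∉ Subgroup.centralizer (R : Set G) → a.coeff s = 0) ∧ redA M a = trunc R i := by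
    intro R hR
    obtain ⟨a, -, h1, h2, h3⟩ := exists_supp_lift (M := M)
      (K := P) (H := Subgroup.centralizer (R : Set G))
      ((le_centralizer_of_comm h.comm hR).trans Subgroup.le_normalizer)
      (mem_fixAlg.2 (h.trunc_fix hR)) (h.trunc_idem hR) (trunc_suppIn R i)
    exact ⟨a, h1, h3, h2⟩
  choose a ha using hex
  exact ⟨fun R => if hR : R ≤ P then a R hR else 0, fun R hR => by
    simp only [dif_pos hR]; exact ha R hR⟩

/-- The squared level at a subgroup, times the order of the defect group. -/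
noncomputable def dlev (p : ℕ) (a : Subgroup G → MonoidAlgebra (locRing M) G) (R : Subgroup G) : ℂ :=
  dsum p (Subgroup.centralizer (R : Set G) : Set G) (fun s => ((a R).coeff s : ℂ))
    (fun s => ((a R).coeff s : ℂ))

omit [Fintype G] [Fact p.Prime] [CharP (ResField M) p] in
theorem up_trunc_down [Finite G] {H R S : Subgroup G} (hH : H = Subgroup.centralizer (R : Set G))
    {R' : Subgroup H} (hS : R'.map H.subtype = S) (i : MonoidAlgebra (ResField M) G) :
    up H (trunc R' (down H (trunc R i))) = trunc (R ⊔ S) i := by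
  rw [up_trunc, hS, up_down (hH ▸ trunc_suppIn R i)]
  ext x
  simp only [coeff_trunc]
  have hiff : (x ∈ Subgroup.centralizer (R : Set G) ∧ x ∈ Subgroup.centralizer (S : Set G)) ↔
      x ∈ Subgroup.centralizer ((R ⊔ S : Subgroup G) : Set G) := by
    rw [Subgroup.sup_eq_closure, Subgroup.centralizer_closure]
    simp only [Subgroup.mem_centralizer_iff, Set.mem_union, SetLike.mem_coe]
    exact ⟨fun h z hz => hz.elim (h.1 z) (h.2 z), fun h => ⟨fun z hz => h z (Or.inl hz),
      fun z hz => h z (Or.inr hz)⟩⟩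
  rw [← ite_and]
  exact if_congr (and_comm.trans hiff) rfl rfl

/-- **The local block at a nontrivial subgroup.** -/
theorem exists_local (hM : IsPModular p M) {B : Set (IrrCharacter G)} {hB : IsPBlock M B}
    {P : Subgroup G} {e i : MonoidAlgebra (ResField M) G} (h : Pointed p (ebar hB) P e i)
    (hfree : ∀ g ∈ pairStab P e, ∀ x ∈ P, x ≠ 1 → g * x * g⁻¹ = x →
      g ∈ Subgroup.centralizer (P : Set G))
    {a : Subgroup G → MonoidAlgebra (locRing M) G} (ha : IsLifting P i a) {Q : Subgroup G}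
    (hQ : Q ≤ P) (hQ1 : Q ≠ ⊥) :
    ∃ (H : Subgroup G) (_ : H = Subgroup.centralizer (Q : Set G)) (b : Set (IrrCharacter H))
      (hb : IsPBlock M b), trunc Q i * eIn hb = trunc Q i ∧
      ∃ F : IrrCharacter H → P → ℂ, (∀ θ, IsCharacter P (F θ)) ∧
        (∀ θ, F θ 1 = val M (θ : H → ℂ) 1 (down H (trunc Q i))) ∧
        ∀ x : P, ∃ (L : ℤ) (ζ : ℂ) (R : IrrCharacter H → ℤ[X]), IsPrimitiveRoot ζ (orderOf x) ∧
          (∀ θ, F θ x = (L : ℂ) * aeval ζ (R θ)) ∧
          (∃ θ ∈ b, ¬ MemLocalIdeal M (aeval ζ (R θ))) ∧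
          (∀ θ ∈ b, F θ x * conj (F θ x) = (L : ℂ) ^ 2) ∧
          dlev p a (Q ⊔ Subgroup.zpowers (x : G)) =
            (L : ℂ) ^ 2 * ((p ^ blockDefect p B : ℕ) : ℂ) := by
  obtain ⟨H, hH⟩ : ∃ H : Subgroup G, H = Subgroup.centralizer (Q : Set G) := ⟨_, rfl⟩
  haveI := Fintype.ofFinite H
  obtain ⟨b, hb, hle, htb, hloc, hst⟩ := h.localPointed hQ hH
  haveI := Fintype.ofFinite b
  have hPH : P ≤ H := hH ▸ le_centralizer_of_comm h.comm hQ
  set i' := down H (trunc Q i) with hi'
  set P' := P.subgroupOf H with hP'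
  have htriv : pairStab P' (down H e) ≤ Subgroup.centralizer (P' : Set H) := by
    intro g hg
    obtain ⟨q, hq, hq1⟩ : ∃ q ∈ Q, q ≠ 1 := by
      by_contra hc
      push Not at hc
      exact hQ1 ((Subgroup.eq_bot_iff_forall _).2 hc)
    have hgq : (g : G) * q * (g : G)⁻¹ = q := by
      rw [← Subgroup.mem_centralizer_iff.1 (hH.le g.2) q hq, mul_inv_cancel_right]
    refine Subgroup.mem_centralizer_iff.2 fun y hy => Subtype.ext ?_
    exact Subgroup.mem_centralizer_iff.1 (hfree _ (hst g hg) q (hQ hq) hq1 hgq) _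
      (Subgroup.mem_subgroupOf.1 hy)
  have hdef : blockDefect p b = blockDefect p B := by
    refine Nat.pow_right_injective (Fact.out : p.Prime).two_le ?_
    show p ^ blockDefect p b = p ^ blockDefect p B
    rw [← blockDefect_eq_of_pointed hM h, ← blockDefect_eq_of_pointed hM hloc]
    exact Nat.card_congr (Subgroup.subgroupOfEquivOfLe hPH).toEquiv
  have hcard : Fintype.card b = p ^ blockDefect p B := by
    rw [← blockDefect_eq_of_pointed hM h, Fintype.card_eq_nat_card,
      (BlockRank.rankOne_of_trivial_inertial hM hb hloc.pair hloc.noExt hloc.comm htriv).2]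
    exact Nat.card_congr (Subgroup.subgroupOfEquivOfLe hPH).toEquiv
  let φ : P →* P' := (Subgroup.subgroupOfEquivOfLe hPH).symm.toMonoidHom
  refine ⟨H, hH, b, hb, htb, fun θ x => val M (θ : H → ℂ) (φ x : H) i', fun θ => ?_, fun θ => by
    show val M (θ : H → ℂ) ((φ 1 : P') : H) i' = _
    rw [map_one]; rfl, fun x => ?_⟩
  · exact CfsgLib.Char.IsCharacter.comp (isCharacter_val hM θ hloc.fix hloc.idem) φ
  set x' : H := (φ x : H) with hx'
  have hx'G : (x' : G) = x := rfl
  set X := Subgroup.zpowers (x : G) with hX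
  have hQX : Q ⊔ X ≤ P := sup_le hQ (Subgroup.zpowers_le.2 x.2)
  obtain ⟨hai, has, har⟩ := ha _ hQX
  have hCC : Subgroup.centralizer ((Q ⊔ X : Subgroup G) : Set G) ≤ H := hH ▸ centralizer_anti le_sup_left
  have hmap : (Subgroup.zpowers x').map H.subtype = X := MonoidHom.map_zpowers _ _
  have hCmap : ∀ s : H, s ∈ Subgroup.centralizer ({x'} : Set H) ↔
      (s : G) ∈ Subgroup.centralizer ((Q ⊔ X : Subgroup G) : Set G) := by
    intro s
    rw [Subgroup.sup_eq_closure, Subgroup.centralizer_closure, Subgroup.mem_centralizer_singleton_iff,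
      Subgroup.mem_centralizer_iff, Subtype.ext_iff]
    push_cast
    rw [hx'G]
    constructor
    · rintro h z (hz | hz)
      · exact Subgroup.mem_centralizer_iff.1 (hH.le s.2) z hz
      · obtain ⟨k, rfl⟩ := hz
        exact ((show Commute (x : G) s from h.symm).zpow_left k).eq
    · exact fun h => (h x (Or.inr (Subgroup.mem_zpowers _))).symm
  obtain ⟨k, hk⟩ := IsPGroup.iff_orderOf.1 h.pair.pair.pgroup x
  have hordx : orderOf x' = orderOf x := by rw [← Subgroup.orderOf_coe x', hx'G, Subgroup.orderOf_coe]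
  have hn : 0 < orderOf x := by rw [hk]; exact pow_pos (Fact.out : p.Prime).pos _
  have hζ := Complex.isPrimitiveRoot_exp _ hn.ne'
  obtain ⟨L, R, hval, h0, h1, hD⟩ := exists_point_value hM hloc (x := x') (φ x).2
    (fun g hg _ => htriv hg) (a := res H (a (Q ⊔ X)))
    (res_idem hai fun s hs => has s fun hh => hs (hCC hh))
    (fun s hs => by rw [coeff_res]; exact has _ fun hh => hs ((hCmap s).2 hh))
    (by
      refine up_injective H ?_
      rw [up_trunc_down hH hmap, redA_res, up_down, har]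
      intro s hs
      rw [har]
      exact (trunc_suppIn _ i).mono hCC s hs)
    (ζ := Complex.exp (2 * Real.pi * Complex.I / orderOf x)) (hordx ▸ hζ)
  have hD' : dlev p a (Q ⊔ X) = (L : ℂ) ^ 2 * ((p ^ blockDefect p B : ℕ) : ℂ) := by
    rw [← hdef, ← hD, dlev]
    simp only [coeff_res]
    rw [dsum_res (p := p) (H := H) _ (a := fun s => ((a (Q ⊔ X)).coeff s : ℂ))
      (b := fun s => ((a (Q ⊔ X)).coeff s : ℂ)) (fun s hs => by
        rw [has s fun hh => hs (hCC hh)]; rfl)]
    congr 1
    ext g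
    constructor
    · exact fun hg => ⟨⟨g, hCC hg⟩, (hCmap _).2 hg, rfl⟩
    · rintro ⟨s, hs, rfl⟩
      exact (hCmap s).1 hs
  refine ⟨L, _, R, hζ, fun θ => hval θ, h1, fun θ hθ => ?_, hD'⟩
  show val M (θ : H → ℂ) x' i' * conj (val M (θ : H → ℂ) x' i') = _
  rcases eq_or_ne L 0 with rfl | hL
  · rw [hval θ]; simp
  -- all the absolute values are those of the level
  have hsec : ∀ θ : IrrCharacter H, secVal p x' (fun s => ((res H (a (Q ⊔ X))).coeff s : ℂ))
      (θ : H → ℂ) = val M (θ : H → ℂ) x' i' := fun θ => by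
    rw [val_eq_secVal hM (CfsgLib.Char.IsIrrCharacter.isClassFunction θ.2) ⟨k, hordx.trans hk⟩
      (hloc.fix.mono (Subgroup.zpowers_le.2 (φ x).2)) hloc.idem rfl
      (res_idem hai fun s hs => has s fun hh => hs (hCC hh))
      (fun s hs => by rw [coeff_res]; exact has _ fun hh => hs ((hCmap s).2 hh))]
    refine up_injective H ?_
    rw [up_trunc_down hH hmap, redA_res, up_down, har]
    intro s hs
    rw [har]
    exact (trunc_suppIn _ i).mono hCC s hs
  have hcom : ∀ s : H, ((res H (a (Q ⊔ X))).coeff s : ℂ) ≠ 0 → Commute x' s := fun s hs =>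
    commute_of_supp le_rfl (fun t ht => by rw [coeff_res]; exact has _ fun hh => ht ((hCmap t).2 hh)) hs
  have horth := sum_secVal_mul_conj (p := p) (u := x') (v := x') ⟨k, hordx.trans hk⟩
    ⟨k, hordx.trans hk⟩ hcom hcom
  have hset : {g : H | g * x' * g⁻¹ = x'} = (Subgroup.centralizer ({x'} : Set H) : Set H) := by
    ext g
    simp [Subgroup.mem_centralizer_singleton_iff, mul_inv_eq_iff_eq_mul]
  rw [hset, hD, hdef, ← hcard, Finset.sum_congr rfl fun θ _ => by rw [hsec θ]] at horth
  rw [← Finset.sum_subset (Finset.subset_univ b.toFinset) fun θ _ hθ => by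
    rw [val_eq_zero_off hM hb hloc.idem hloc.mul_block (hloc.fix.mono
      (Subgroup.zpowers_le.2 (φ x).2)) fun hh => hθ (Set.mem_toFinset.2 hh), zero_mul],
    Finset.sum_subtype b.toFinset (p := fun θ => θ ∈ b) (fun θ => Set.mem_toFinset)] at horth
  have hL2 : ((L : ℂ) ^ 2) ≠ 0 := pow_ne_zero _ (Int.cast_ne_zero.2 hL)
  have hN : ∑ θ : b, aeval (Complex.exp (2 * Real.pi * Complex.I / orderOf x)) (R θ) *
      conj (aeval (Complex.exp (2 * Real.pi * Complex.I / orderOf x)) (R θ)) =
      (Fintype.card b : ℂ) := by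
    refine mul_left_cancel₀ hL2 ?_
    rw [← horth, Finset.mul_sum]
    refine Finset.sum_congr rfl fun θ _ => ?_
    rw [hval, map_mul, map_intCast]
    ring
  have h2 := normSq_eq_one_of_sum_eq_card hn hζ (fun θ : b => R θ) (fun θ => h0 θ θ.2) hN ⟨θ, hθ⟩
  rw [hval θ, map_mul, map_intCast]
  dsimp only at h2
  linear_combination (L : ℂ) ^ 2 * h2

end CfsgLib.FreeInertial
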