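import Cfsg.Agent.Lib.FreeInertial.Orth
import Cfsg.Agent.Lib.FreeInertial.Lattice
import Cfsg.Agent.Lib.FreeInertial.Combinatorics
import Cfsg.Agent.Lib.BlockRank.FreeSections
import Cfsg.Agent.Lib.Blk83.CyclicStructure

/-!
# Blocks with abelian defect group and freely acting inertial quotient

The counts of the irreducible and the modular irreducible characters.
-/

set_option autoImplicit false
set_option maxHeartbeats 1600000
set_option synthInstance.maxHeartbeats 400000

open Cfsg CfsgLib.Blocks CfsgLib.Blocks.Pairs CfsgLib.BlockStar CfsgLib.Blk83.FreeOrbit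
open scoped Classical ComplexConjugate

namespace CfsgLib.FreeInertial

universe u

/-- A vector with squared length four and at least two entries has four. -/
theorem card_eq_four {ι : Type*} [Fintype ι] (v : ι → ℤ) (hv : ∀ i, v i ≠ 0)
    (h : ∑ i, v i * v i = 4) (h2 : 2 ≤ Fintype.card ι) : Fintype.card ι = 4 := by
  have hone : ∀ i, v i * v i = 1 := by
    intro i
    have hge : ∀ j, 1 ≤ v j * v j := fun j => mul_self_pos.2 (hv j)
    by_contra hne
    have h4 : 4 ≤ v i * v i := by
      have : v i ≤ -2 ∨ 2 ≤ v i := by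
        by_contra hc
        rcases (show v i = -1 ∨ v i = 1 by have := hv i; omega) with e | e <;>
          exact hne (by rw [e]; ring)
      rcases this with e | e <;> nlinarith
    rw [← Finset.add_sum_erase _ _ (Finset.mem_univ i)] at h
    have hle : (((Finset.univ.erase i).card : ℕ) : ℤ) ≤ ∑ j ∈ Finset.univ.erase i, v j * v j := by
      rw [Finset.card_eq_sum_ones, Nat.cast_sum]
      exact Finset.sum_le_sum fun j _ => hge j
    rw [Finset.card_erase_of_mem (Finset.mem_univ i), Finset.card_univ] at hle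
    omega
  simp only [hone, Finset.sum_const, Finset.card_univ, nsmul_eq_mul, mul_one] at h
  exact_mod_cast h

variable {G : Type u} [Group G] [Finite G] {p : ℕ} [Fact p.Prime] {M : Ideal AlgInt} [M.IsMaximal]
  [CharP (ResField M) p]

/-- **The counts.** -/
theorem counts (hM : IsPModular p M) {B : Set (IrrCharacter G)} (hB : IsPBlock M B) {P : Subgroup G}
    {e : MonoidAlgebra (ResField M) G} (hP : PairOf p (ebar hB) P e) (hno : NoExt p P e)
    (hab : ∀ x ∈ P, ∀ y ∈ P, x * y = y * x) (hP1 : P ≠ ⊥) (hfree : Free P (pairStab P e)) {n : ℕ}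
    (hn : (Subgroup.centralizer (P : Set G)).relIndex (pairStab P e) = n) :
    ∃ m : ℕ, 0 < n ∧ Nat.card P = 1 + n * m ∧ Nat.card B = blockRank p B + m ∧
      blockRank p B ≤ n ∧ (n ≤ 3 → blockRank p B = n) := by
  haveI := Fintype.ofFinite G
  haveI := Fintype.ofFinite B
  obtain ⟨m, hk, hcard⟩ := BlockRank.exists_card_of_free hM hB hP hno hab hfree
  rw [hn] at hcard
  letI : CommGroup P :=
    { (inferInstance : Group P) with mul_comm := fun u v => Subtype.ext (hab _ u.2 _ v.2) }
  have hPcard : 1 < Nat.card P := Subgroup.one_lt_card_iff_ne_bot P |>.2 hP1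
  have hn0 : 0 < n := Nat.pos_of_ne_zero fun h0 => by rw [h0, zero_mul] at hcard; omega
  have hm0 : 0 < m := Nat.pos_of_ne_zero fun h0 => by rw [h0, mul_zero] at hcard; omega
  obtain ⟨y, hy, h⟩ := exists_pointed hP hno hab
  have hfree' : ∀ g ∈ pairStab P e, ∀ x ∈ P, x ≠ 1 → g * x * g⁻¹ = x →
      g ∈ Subgroup.centralizer (P : Set G) := fun g hg x hx hx1 hgx => hfree g hg x hx hx1 hgx
  obtain ⟨W, hWgen, hWu, hWinv, hint, hne, horth⟩ := exists_values hM hy h hfree'
  -- the group of automorphisms
  have hSN : pairStab P e ≤ Subgroup.normalizer (P : Set G) := fun g hg => hg.1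
  set φ : pairStab P e →* MulAut P := P.normalizerMonoidHom.comp (Subgroup.inclusion hSN) with hφ
  have hφa : ∀ (g : pairStab P e) (u : P), (φ g u : G) = (g : G) * u * (g : G)⁻¹ := fun g u => rfl
  set T : Subgroup (MulAut P) := φ.range with hT
  have hTfree : ∀ a : T, a ≠ 1 → ∀ v : P, (a : MulAut P) v = v → v = 1 := by
    rintro ⟨_, g, rfl⟩ ha v hv
    by_contra hv1
    refine ha (Subtype.ext (MulEquiv.ext fun w => Subtype.ext ?_))
    have hg := hfree' g g.2 v v.2 (fun h1 => hv1 (Subtype.ext h1))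
      ((hφa g v).symm.trans (congrArg Subtype.val hv))
    show (φ g w : G) = w
    rw [hφa, ← Subgroup.mem_centralizer_iff.1 hg w w.2, mul_inv_cancel_right]
  have hker : φ.ker = (Subgroup.centralizer (P : Set G)).subgroupOf (pairStab P e) := by
    ext g
    rw [hφ, MonoidHom.mem_ker, MonoidHom.comp_apply, ← MonoidHom.mem_ker,
      Subgroup.normalizerMonoidHom_ker, Subgroup.mem_subgroupOf, Subgroup.mem_subgroupOf]
    rfl
  have hTcard : Nat.card T = n := by
    rw [← hn, Subgroup.relIndex, ← hker, Subgroup.index_ker]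
  haveI := finite_orb T
  haveI := Fintype.ofFinite (Orb T)
  haveI := Fintype.ofFinite T
  have hOcard : Fintype.card (Orb T) = m := by
    have h1 := card_orb_mul T hTfree
    rw [hTcard, hcard, Nat.card_eq_fintype_card] at h1
    exact Nat.eq_of_mul_eq_mul_right hn0 (by rw [mul_comm m n]; omega)
  set F : B → P → ℂ := fun χ u =>
    val M ((χ : IrrCharacter G) : G → ℂ) (u : G) (y : MonoidAlgebra (ResField M) G) with hF
  obtain ⟨a, ha, hsupp⟩ := exists_lattice (ι := B) h.pair.pair.pgroup T hTfree hPcard W hWgen hWu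
    (by
      rintro ⟨_, g, rfl⟩ u hu
      exact hWinv g g.2 u (φ g u) hu (hφa g u).symm)
    F (fun χ => CfsgLib.Char.IsCharacter.isGeneralizedCharacter (isCharacter_val hM χ.1 h.fix h.idem))
    (by
      rintro χ ⟨_, g, rfl⟩ u -
      exact (congrArg (fun z : G => val M ((χ : IrrCharacter G) : G → ℂ) z
        (y : MonoidAlgebra (ResField M) G)) (hφa g u)).trans
          (val_conj_eq hM hy h g.2 (CfsgLib.Char.IsIrrCharacter.isClassFunction χ.1.2) u.2))
    (fun χ u hu => hint u hu χ) (fun χ u hu => hne u hu χ χ.2)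
    (fun u v hu hv => by
      show ∑ χ : B, val M ((χ : IrrCharacter G) : G → ℂ) (u : G) _ * conj (val M _ (v : G) _) = _
      rw [← Finset.sum_subtype (Set.toFinite B).toFinset (p := fun χ => χ ∈ B)
        (fun χ => (Set.toFinite B).mem_toFinset) (fun χ : IrrCharacter G =>
          val M (χ : G → ℂ) (u : G) (y : MonoidAlgebra (ResField M) G) *
            conj (val M (χ : G → ℂ) (v : G) (y : MonoidAlgebra (ResField M) G))),
        horth u v hu hv]
      have hiff : (∃ g ∈ pairStab P e, g * (u : G) * g⁻¹ = v) ↔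
          ∃ a : T, (a : MulAut P) u = v := by
        constructor
        · rintro ⟨g, hg, hgu⟩
          exact ⟨⟨φ ⟨g, hg⟩, ⟨g, hg⟩, rfl⟩, Subtype.ext ((hφa _ u).trans hgu)⟩
        · rintro ⟨⟨_, g, rfl⟩, hgu⟩
          exact ⟨g, g.2, (hφa g u).symm.trans (congrArg Subtype.val hgu)⟩
      split_ifs with h1 h2 h2
      all_goals first | rfl | exact absurd (hiff.1 h1) h2 | exact absurd (hiff.2 h2) h1)
  replace ha : ∀ q r : Orb T, ∑ i, a q i * a r i = (if q = r then 1 else 0) + (n : ℤ) := by
    intro q r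
    rw [ha, hTcard]
  haveI : Nonempty (Orb T) := Fintype.card_pos_iff.1 (hOcard ▸ hm0)
  have hbound := card_le_add (fun q r => (ha q r).trans (by split_ifs <;> rfl)) hsupp
  have hp : p.Prime := Fact.out
  have hkF : Fintype.card B = blockRank p B + m := by rw [← Nat.card_eq_fintype_card, hk]
  rw [hOcard, hkF] at hbound
  have hl : 0 < blockRank p B :=
    BlockRank.blockRank_pos hp.ne_one (BlockReg.block_nonempty hM hB)
  refine ⟨m, hn0, hcard, hk, by omega, fun hn3 => ?_⟩
  -- a defect group of prime order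
  have hprime : (Nat.card P).Prime → blockRank p B = n := by
    intro hpr
    obtain ⟨k, hkP⟩ := IsPGroup.iff_card.1 h.pair.pair.pgroup
    haveI := Fact.mk hpr
    have hcyc : IsCyclic P := isCyclic_of_prime_card rfl
    have hk1 : 1 ≤ k := by
      by_contra h0
      rw [show k = 0 by omega, pow_zero] at hkP
      omega
    have hd : Blk83.Cyc.CycData p hB P e k n := ⟨hM, hP, hno, hcyc, hkP, hk1, hn⟩
    exact hd.block_structure.1
  rcases Nat.lt_or_ge n 2 with hn2 | hn2
  · omega
  rcases Nat.lt_or_ge m 2 with hm2 | hm2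
  · -- one orbit
    obtain rfl : m = 1 := by omega
    rcases (show n = 2 ∨ n = 3 by omega) with rfl | rfl
    · exact hprime (by rw [hcard]; norm_num)
    · obtain ⟨q, hq⟩ : ∃ q : Orb T, ∀ r, r = q :=
        Fintype.card_eq_one_iff.1 hOcard
      have hnorm : ∑ i, a q i * a q i = 4 := by rw [ha, if_pos rfl]; norm_num
      have h4 := card_eq_four (a q) (fun i => by
        obtain ⟨r, hr⟩ := hsupp i
        rwa [hq r] at hr) hnorm (by omega)
      omega
  haveI : Nontrivial (Orb T) := Fintype.one_lt_card_iff_nontrivial.1 (by omega)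
  rcases card_eq_or (fun q r => (ha q r).trans (by split_ifs <;> rfl)) hsupp hn2 hn3 with h1 | h1
  · omega
  by_cases hln : blockRank p B = n
  · exact hln
  rcases (show (n = 2 ∧ m = 3) ∨ (n = 3 ∧ m = 3) ∨ (n = 3 ∧ m = 4) by omega) with
    ⟨rfl, rfl⟩ | ⟨rfl, rfl⟩ | ⟨rfl, rfl⟩
  · exact hprime (by rw [hcard]; norm_num)
  · exfalso
    obtain ⟨k, hkP⟩ := IsPGroup.iff_card.1 h.pair.pair.pgroup
    rw [hcard] at hkP
    have h10 : p ^ k = 10 := by omega
    have h2 : p = 2 := ((Nat.prime_dvd_prime_iff_eq Nat.prime_two hp).1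
      (Nat.prime_two.dvd_of_dvd_pow (n := k) (h10 ▸ by norm_num))).symm
    have h5 : p = 5 := ((Nat.prime_dvd_prime_iff_eq (by norm_num : Nat.Prime 5) hp).1
      ((by norm_num : Nat.Prime 5).dvd_of_dvd_pow (n := k) (h10 ▸ by norm_num))).symm
    omega
  · exact hprime (by rw [hcard]; norm_num)

end CfsgLib.FreeInertial
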