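import Cfsg.Agent.Lib.FreeInertial.TwoAdic
import Cfsg.Agent.Lib.Blocks.Local
import Cfsg.Agent.Lib.BlockReg.LocalRing

/-!
# Normalizing a generalized character with integral absolute values

A generalized character of an abelian `p`-group whose values are natural numbers prime to `p`
times roots of unity becomes, after multiplication by a linear character, integer valued and
constant modulo `p` (modulo four for `p = 2`).
-/

set_option autoImplicit false

open Cfsg CfsgLib.BlockReg
open scoped ComplexConjugate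

namespace CfsgLib.FreeInertial

universe u

/-- The modulus that determines a sign. -/
def qmod (p : ℕ) : ℤ := if p = 2 then 4 else p

theorem p_dvd_qmod (p : ℕ) : (p : ℤ) ∣ qmod p := by
  rw [qmod]
  split_ifs with h
  · exact ⟨2, by simp [h]⟩
  · exact dvd_rfl

theorem eq_of_natAbs_eq_of_dvd {p : ℕ} (hp : p.Prime) {a b : ℤ} (h : a.natAbs = b.natAbs)
    (hd : qmod p ∣ a - b) (ha : ¬ (p : ℤ) ∣ a) : a = b := by
  rcases Int.natAbs_eq_natAbs_iff.1 h with rfl | rfl
  · rfl
  exfalso
  apply ha
  rw [dvd_neg]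
  rw [show -b - b = -(2 * b) by ring, dvd_neg] at hd
  unfold qmod at hd
  split_ifs at hd with h2
  · subst h2
    obtain ⟨c, hc⟩ := hd
    exact ⟨c, by push_cast; omega⟩
  · rcases (Nat.prime_iff_prime_int.1 hp).dvd_mul.1 hd with h3 | h3
    · have : p ∣ 2 := by exact_mod_cast h3
      exact absurd ((Nat.prime_dvd_prime_iff_eq hp Nat.prime_two).1 this) h2
    · exact h3

variable {A : Type u} [CommGroup A] [Fintype A] {p : ℕ} [Fact p.Prime] {M : Ideal AlgInt}
  [M.IsMaximal]

/-- All values of a generalized character of a `p`-group are congruent. -/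
theorem gen_sub_one_memIdeal (hM : IsPModular p M) (hA : IsPGroup p A) {f : A → ℂ}
    (hf : IsGeneralizedCharacter A f) (g : A) : MemLocalIdeal M (f g - f 1) := by
  classical
  have := Blk83.FreeOrbit.finite_dual (A := A)
  have := Fintype.ofFinite (A →* ℂˣ)
  choose z hz using exists_int_fsum hf
  have hA0 : (Nat.card A : ℂ) ≠ 0 := Nat.cast_ne_zero.2 Nat.card_pos.ne'
  have hexp : ∀ g, f g = ∑ lam : A →* ℂˣ, (z lam : ℂ) * (lam g : ℂ) := fun g => by
    refine mul_left_cancel₀ hA0 ?_
    rw [card_mul_eq_sum f g, Finset.mul_sum]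
    exact Finset.sum_congr rfl fun lam _ => by rw [hz]; ring
  rw [hexp g, hexp 1, ← Finset.sum_sub_distrib]
  refine memIdeal_sum hM _ fun lam _ => ?_
  rw [map_one, Units.val_one, ← mul_sub]
  refine memIdeal_mul_left hM (memRing_intCast hM _) ?_
  obtain ⟨k, hk⟩ := hA g
  have hR : (lam g : ℂ) ∈ CfsgLib.Blocks.locRing M := memRing_algInt hM (isIntegral_lam lam g)
  rw [← OneMemClass.coe_one (CfsgLib.Blocks.locRing M),
    CfsgLib.Blocks.memLocalIdeal_sub_iff (x := ⟨(lam g : ℂ), hR⟩), map_one]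
  refine CfsgLib.Blocks.red_eq_one_of_pow_prime_pow hM.1 hM.2.2 (k := k) (Subtype.ext ?_)
  show (lam g : ℂ) ^ p ^ k = 1
  rw [← Units.val_pow_eq_pow_val, ← map_pow, hk, map_one, Units.val_one]

theorem gen_int_congr (hM : IsPModular p M) (hA : IsPGroup p A) (V : A → ℤ)
    (hV : IsGeneralizedCharacter A fun g => (V g : ℂ)) (g : A) : (p : ℤ) ∣ V g - V 1 := by
  rw [← memIdeal_intCast_iff hM, Int.cast_sub]
  exact gen_sub_one_memIdeal hM hA hV g

omit [Fact p.Prime] [M.IsMaximal] in
/-- A generalized character of absolute value one is linear. -/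
theorem exists_linear_of_abs_one {f : A → ℂ} (hf : IsGeneralizedCharacter A f)
    (habs : ∀ g, f g * conj (f g) = 1) (h1 : f 1 = 1) :
    ∃ μ : A →* ℂˣ, ∀ g, f g = (μ g : ℂ) := by
  classical
  have := Blk83.FreeOrbit.finite_dual (A := A)
  have := Fintype.ofFinite (A →* ℂˣ)
  choose z hz using exists_int_fsum hf
  have hA0 : (Nat.card A : ℂ) ≠ 0 := Nat.cast_ne_zero.2 Nat.card_pos.ne'
  have hsq : ∑ lam : A →* ℂˣ, z lam ^ 2 = 1 := by
    have h : (Nat.card A : ℂ) * (Nat.card A : ℂ) * ((∑ lam : A →* ℂˣ, z lam ^ 2 : ℤ) : ℂ) =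
        (Nat.card A : ℂ) * (Nat.card A : ℂ) * 1 := by
      calc _ = ∑ lam : A →* ℂˣ, fsum f lam * conj (fsum f lam) := by
            push_cast
            rw [Finset.mul_sum]
            refine Finset.sum_congr rfl fun lam _ => ?_
            rw [hz, map_mul, map_natCast, map_intCast]
            ring
        _ = ∑ g, conj (f g) * ((Nat.card A : ℂ) * f g) := by
            simp only [card_mul_eq_sum f, Finset.mul_sum]
            rw [Finset.sum_comm]
            refine Finset.sum_congr rfl fun lam _ => ?_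
            conv_lhs => arg 2; rw [fsum, map_sum]
            rw [Finset.mul_sum]
            refine Finset.sum_congr rfl fun g _ => ?_
            rw [map_mul, Complex.conj_conj]
            ring
        _ = _ := by
            have e : ∀ g, conj (f g) * ((Nat.card A : ℂ) * f g) = (Nat.card A : ℂ) := fun g => by
              linear_combination (Nat.card A : ℂ) * habs g
            rw [Finset.sum_congr rfl fun g _ => e g]
            simp [Nat.card_eq_fintype_card]
    exact_mod_cast mul_left_cancel₀ (mul_ne_zero hA0 hA0) h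
  obtain ⟨l₀, hl₀⟩ : ∃ l, z l ≠ 0 := by
    by_contra h
    push Not at h
    simp [h] at hsq
  have hsplit := Finset.add_sum_erase (Finset.univ : Finset (A →* ℂˣ)) (fun l => z l ^ 2)
    (Finset.mem_univ l₀)
  rw [hsq] at hsplit
  have hpos : 0 < z l₀ ^ 2 := by positivity
  have hrest0 : ∑ l ∈ (Finset.univ : Finset (A →* ℂˣ)).erase l₀, z l ^ 2 = 0 := by
    have : 0 ≤ ∑ l ∈ (Finset.univ : Finset (A →* ℂˣ)).erase l₀, z l ^ 2 :=
      Finset.sum_nonneg fun l _ => sq_nonneg _
    omega
  have hzero : ∀ l, l ≠ l₀ → z l = 0 := fun l hl => eq_zero_of_pow_eq_zero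
    ((Finset.sum_eq_zero_iff_of_nonneg fun l _ => sq_nonneg _).1 hrest0 l
      (Finset.mem_erase.2 ⟨hl, Finset.mem_univ _⟩))
  have hval : ∀ g, f g = (z l₀ : ℂ) * (l₀ g : ℂ) := fun g => by
    refine mul_left_cancel₀ hA0 ?_
    rw [card_mul_eq_sum f g, Finset.sum_eq_single l₀ (fun l _ hl => by simp [hz, hzero l hl])
      (fun h => absurd (Finset.mem_univ _) h), hz]
    ring
  refine ⟨l₀, fun g => ?_⟩
  have h := hval 1
  rw [h1, map_one, Units.val_one, mul_one] at h
  rw [hval g, ← h, one_mul]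

omit [Fact p.Prime] [M.IsMaximal] in
/-- A linear character trivial on the involutions is a square. -/
theorem exists_sq_root (μ : A →* ℂˣ) (h : ∀ x : A, x ^ 2 = 1 → μ x = 1) :
    ∃ ν : A →* ℂˣ, ν ^ 2 = μ := by
  let r : A →* (powMonoidHom 2 : A →* A).range := (powMonoidHom 2 : A →* A).rangeRestrict
  have hker : r.ker ≤ μ.ker := fun x hx => by
    rw [MonoidHom.ker_rangeRestrict, MonoidHom.mem_ker, powMonoidHom_apply] at hx
    exact h x hx
  let μ' : (powMonoidHom 2 : A →* A).range →* ℂˣ :=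
    r.liftOfSurjective (MonoidHom.rangeRestrict_surjective _) ⟨μ, hker⟩
  obtain ⟨ν, hν⟩ := MonoidHom.domRestrict_surjective (M := ℂ) (powMonoidHom 2 : A →* A).range μ'
  refine ⟨ν, MonoidHom.ext fun x => ?_⟩
  have h2 : μ' (r x) = μ x := MonoidHom.liftOfRightInverse_comp_apply _ _ _ _ x
  rw [← h2, ← hν, MonoidHom.pow_apply, ← map_pow]
  rfl

/-- **Normalization.** -/
theorem exists_normalized (hM : IsPModular p M) (hA : IsPGroup p A) {F : A → ℂ}
    (hF : IsGeneralizedCharacter A F) (m : A → ℕ)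
    (habs : ∀ g, F g * conj (F g) = (m g : ℂ) ^ 2) (hm : ∀ g, ¬ p ∣ m g)
    (hint : ∀ g, IsIntegral ℤ (F g / (m g : ℂ))) :
    ∃ V : A → ℤ, IsGeneralizedCharacter A (fun g => (V g : ℂ)) ∧ (∀ g, (V g).natAbs = m g) ∧
      ∀ g, qmod p ∣ V g - V 1 := by
  classical
  have hp : p.Prime := Fact.out
  have hm0 : ∀ g, (m g : ℂ) ≠ 0 := fun g =>
    Nat.cast_ne_zero.2 fun h => hm g (h ▸ dvd_zero p)
  have hA0 : (Nat.card A : ℂ) ≠ 0 := Nat.cast_ne_zero.2 Nat.card_pos.ne'
  set g2 : A → ℂ := fun g => (F g / (m g : ℂ)) ^ 2 with hg2def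
  have hsq : IsGeneralizedCharacter A fun g => (((m g : ℤ) ^ 2 : ℤ) : ℂ) := by
    have h := CfsgLib.Char.IsGeneralizedCharacter.mul hF (isGen_conj hF)
    convert h using 1
    funext g
    push_cast
    exact (habs g).symm
  have hg2 : IsGeneralizedCharacter A g2 := by
    obtain ⟨N, Z, hZ, hco, hN0, hVZ⟩ := exists_clear hp hA (fun g => (m g : ℤ) ^ 2) hsq
      Finset.univ fun g _ h => hm g (Int.natCast_dvd_natCast.1
        ((Nat.prime_iff_prime_int.1 hp).dvd_of_dvd_pow h))
    refine isGen_of_intCast_mul hN0 hco (fun g => (hint g).pow 2) ?_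
    have h := CfsgLib.Char.IsGeneralizedCharacter.mul
      (CfsgLib.Char.IsGeneralizedCharacter.mul hF hF) hZ
    convert h using 1
    funext g
    have h1 := hVZ g (Finset.mem_univ g)
    push_cast at h1
    simp only [hg2def, Pi.mul_apply]
    rw [← h1, div_pow]
    field_simp [hm0 g]
  obtain ⟨μ, hμ⟩ := exists_linear_of_abs_one hg2 (fun g => by
      simp only [hg2def, map_pow, map_div₀, map_natCast]
      rw [← mul_pow, div_mul_div_comm, habs g, ← pow_two, div_self (pow_ne_zero _ (hm0 g)),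
        one_pow]) (by
      obtain ⟨z, hz⟩ := CfsgLib.Char.IsGeneralizedCharacter.exists_int_apply_one hF
      have h := habs 1
      rw [hz, map_intCast] at h
      simp only [hg2def, hz, div_pow, sq (z : ℂ), h, div_self (pow_ne_zero _ (hm0 1))])
  obtain ⟨ν, hν⟩ : ∃ ν : A →* ℂˣ, ∀ g, (ν g : ℂ) ^ 2 * (μ g : ℂ) = 1 := by
    by_cases h2 : p = 2
    · obtain ⟨ν, hν⟩ := exists_sq_root μ⁻¹ fun x hx => by
        have hreal : conj (F x) = F x := by
          have := Blk83.FreeOrbit.finite_dual (A := A)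
          have := Fintype.ofFinite (A →* ℂˣ)
          refine mul_left_cancel₀ hA0 ?_
          conv_lhs => rw [← map_natCast (starRingEnd ℂ) (Nat.card A), ← map_mul, card_mul_eq_sum F x,
            map_sum]
          rw [card_mul_eq_sum F x]
          refine Finset.sum_congr rfl fun lam _ => ?_
          obtain ⟨z, hz⟩ := exists_int_fsum hF lam
          rw [hz, map_mul, map_mul, map_natCast, map_intCast, Blk83.FreeOrbit.conj_apply,
            inv_eq_self_of_sq x hx]
        have h := habs x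
        rw [hreal, ← sq] at h
        have h1 : (μ x : ℂ) = 1 := by
          rw [← hμ x]
          simp only [hg2def, div_pow, h, div_self (pow_ne_zero _ (hm0 x))]
        rw [MonoidHom.inv_apply, inv_eq_one]
        exact Units.ext h1
      refine ⟨ν, fun g => ?_⟩
      rw [← Units.val_pow_eq_pow_val, ← MonoidHom.pow_apply, hν, ← Units.val_mul,
        MonoidHom.inv_apply, inv_mul_cancel, Units.val_one]
    · obtain ⟨k, hk⟩ : Odd (Nat.card A) := by
        obtain ⟨a, ha⟩ := IsPGroup.iff_card.1 hA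
        rw [ha]
        exact (hp.odd_of_ne_two h2).pow
      refine ⟨μ ^ k, fun g => ?_⟩
      rw [← Units.val_pow_eq_pow_val, ← Units.val_mul, MonoidHom.pow_apply, ← pow_mul, ← pow_succ,
        ← map_pow, show k * 2 + 1 = Nat.card A by omega, pow_card_eq_one', map_one, Units.val_one]
  have hVex : ∀ g, ∃ v : ℤ, F g * (ν g : ℂ) = (v : ℂ) ∧ v.natAbs = m g := by
    intro g
    have h1 : (F g * (ν g : ℂ) / (m g : ℂ)) ^ 2 = 1 := by
      rw [div_pow, mul_pow, mul_div_right_comm, ← div_pow,
        show (F g / (m g : ℂ)) ^ 2 = (μ g : ℂ) from hμ g, mul_comm]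
      exact hν g
    rcases sq_eq_one_iff.1 h1 with h | h
    · exact ⟨m g, by rw [div_eq_iff (hm0 g)] at h; rw [h]; push_cast; ring, by simp⟩
    · exact ⟨-(m g : ℤ), by rw [div_eq_iff (hm0 g)] at h; rw [h]; push_cast; ring, by simp⟩
  choose V hV hVabs using hVex
  have hVgen : IsGeneralizedCharacter A fun g => (V g : ℂ) := by
    have h := CfsgLib.Char.IsGeneralizedCharacter.mul hF
      (CfsgLib.Char.IsIrrCharacter.isGeneralizedCharacter (CfsgLib.Char.isIrrCharacter_linear ν))
    convert h using 1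
    funext g
    exact (hV g).symm
  by_cases h2 : p = 2
  · obtain ⟨θ, s, hθ⟩ := exists_sign_twist (h2 ▸ hA) V hVgen fun g h => hm g (by
      rw [← hVabs g, ← Int.natCast_dvd, h2]
      exact h)
    refine ⟨fun g => s g * V g, ?_, fun g => ?_, fun g => ?_⟩
    · have h := CfsgLib.Char.IsGeneralizedCharacter.mul
        (CfsgLib.Char.IsIrrCharacter.isGeneralizedCharacter (CfsgLib.Char.isIrrCharacter_linear θ))
        hVgen
      convert h using 1
      funext g
      simp [(hθ g).1]
    · rw [Int.natAbs_mul, hVabs]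
      rcases (hθ g).2.1 with e | e <;> simp [e]
    · have hs1 : s 1 = 1 := by
        have := (hθ 1).1
        rw [map_one, Units.val_one] at this
        exact_mod_cast this.symm
      show qmod p ∣ s g * V g - s 1 * V 1
      rw [qmod, if_pos h2, hs1, one_mul]
      exact (hθ g).2.2
  · exact ⟨V, hVgen, hVabs, fun g => by rw [qmod, if_neg h2]; exact gen_int_congr hM hA V hVgen g⟩
where
  inv_eq_self_of_sq (x : A) (hx : x ^ 2 = 1) : x⁻¹ = x :=
    inv_eq_of_mul_eq_one_right (by rw [← sq, hx])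

end CfsgLib.FreeInertial
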