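import Cfsg.Agent.Lib.FreeInertial.Weight
import Cfsg.Agent.Lib.FreeInertial.Invariance
import Cfsg.Agent.Lib.BlockRank.AbelianSections

/-!
# Orthogonality of the values at a point of a block with free inertial quotient

The values of the characters of the block at two nontrivial elements of the defect group are
orthogonal unless the elements are conjugate under the inertial quotient.
-/

set_option autoImplicit false
set_option maxHeartbeats 1600000
set_option synthInstance.maxHeartbeats 400000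

open Cfsg CfsgLib.Blocks CfsgLib.Blocks.Pairs CfsgLib.BlockStar Polynomial
open scoped Classical ComplexConjugate

namespace CfsgLib.FreeInertial

universe u

variable {G : Type u} [Group G] [Fintype G] {p : ℕ} [Fact p.Prime] {M : Ideal AlgInt}
  [M.IsMaximal]

omit [Fact p.Prime] [M.IsMaximal] in
/-- Left translation of the range of summation. -/
theorem dsum_translate {C : Subgroup G} (g₀ : G) (a b : G → ℂ) :
    dsum p ((fun c => g₀ * c) '' (C : Set G)) a b =
      dsum p (C : Set G) a (fun s => b (g₀ * s * g₀⁻¹)) := by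
  rw [dsum, dsum]
  refine (Finset.sum_equiv (Equiv.mulLeft g₀) (fun c => ?_) fun c _ =>
    Finset.sum_congr rfl fun s _ => ?_).symm
  · simp
  · rw [Equiv.coe_mulLeft,
      show g₀ * c * s * (g₀ * c)⁻¹ = g₀ * (c * s * c⁻¹) * g₀⁻¹ by group]

/-- Idempotents in different blocks of a subgroup pair to zero. -/
theorem dsum_eq_zero_of_ne_block (hM : IsPModular p M) {C : Subgroup G}
    {b b' : Set (IrrCharacter C)} (hb : IsPBlock M b) (hb' : IsPBlock M b') (hne : b ≠ b')
    {a a' : MonoidAlgebra (locRing M) G} (hai : a * a = a) (hai' : a' * a' = a')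
    (has : ∀ s, s ∉ C → a.coeff s = 0) (has' : ∀ s, s ∉ C → a'.coeff s = 0)
    (hab : redA M a * eIn hb = redA M a) (hab' : redA M a' * eIn hb' = redA M a') :
    dsum p (C : Set G) (fun s => (a.coeff s : ℂ)) (fun s => (a'.coeff s : ℂ)) = 0 := by
  haveI := Fintype.ofFinite C
  haveI := charP_resField (M := M) hM.1 hM.2.2
  have hres : ∀ {a : MonoidAlgebra (locRing M) G} {b : Set (IrrCharacter C)} {hb : IsPBlock M b},
      (∀ s, s ∉ C → a.coeff s = 0) → redA M a * eIn hb = redA M a →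
      ebar hb * redA M (res C a) = redA M (res C a) := by
    intro a b hb has hab
    have hs : SuppIn C (redA M a) := fun s h => by rw [coeff_redA, has s h, map_zero]
    rw [redA_res]
    refine up_injective C ?_
    rw [up_mul, up_down hs]
    show eIn hb * redA M a = redA M a
    rw [← mul_comm_of_suppIn hs (isBlockIdem_eIn hb).mem.fixed]
    exact hab
  rw [show (C : Set G) = Subtype.val '' (Set.univ : Set C) by simp,
    ← dsum_res (p := p) (H := C) Set.univ (a := fun s => (a.coeff s : ℂ))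
      (b := fun s => (a'.coeff s : ℂ)) (fun s h => by rw [has s h]; rfl)]
  have h1 := sum_secVal_mul_conj (p := p) (u := (1 : C)) (v := (1 : C)) ⟨0, by simp⟩ ⟨0, by simp⟩
    (a := fun s => ((res C a).coeff s : ℂ)) (b := fun s => ((res C a').coeff s : ℂ))
    (fun s _ => Commute.one_left s) (fun s _ => Commute.one_left s)
  rw [show {g : C | g * 1 * g⁻¹ = 1} = Set.univ from Set.eq_univ_of_forall fun g => by simp] at h1
  simp only [coeff_res] at h1
  rw [← h1]
  have hsec : ∀ {a : MonoidAlgebra (locRing M) G}, res C a * res C a = res C a →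
      ∀ θ : IrrCharacter C,
        secVal p (1 : C) (fun s => ((a.coeff (s : G) : locRing M) : ℂ)) (θ : C → ℂ) =
          lin (θ : C → ℂ) (res C a) := fun {a} ha θ => by
    rw [lin_eq_sum_regular (p := p) hM ha (CfsgLib.Char.IsIrrCharacter.isClassFunction θ.2)]
    simp [secVal]
  refine Finset.sum_eq_zero fun θ _ => ?_
  rw [hsec (res_idem hai has), hsec (res_idem hai' has')]
  by_cases hθ : θ ∈ b
  · rw [lin_eq_zero_off hM hb' (res_idem hai' has') (hres has' hab') fun h =>
      hne (IsPBlock.eq_of_mem hb hb' hθ h), map_zero, mul_zero]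
  · rw [lin_eq_zero_off hM hb (res_idem hai has) (hres has hab) hθ, zero_mul]

variable [CharP (ResField M) p] {B : Set (IrrCharacter G)} {hB : IsPBlock M B}
  {P : Subgroup G} {e : MonoidAlgebra (ResField M) G}

/-- **The values at the point and their weight.** -/
theorem exists_values (hM : IsPModular p M) {y : fixAlg (ResField M) P} (hy : Prim y)
    (h : Pointed p (ebar hB) P e (y : MonoidAlgebra (ResField M) G))
    (hfree : ∀ g ∈ pairStab P e, ∀ x ∈ P, x ≠ 1 → g * x * g⁻¹ = x →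
      g ∈ Subgroup.centralizer (P : Set G)) :
    ∃ W : P → ℤ, IsGeneralizedCharacter P (fun x => (W x : ℂ)) ∧
      (∀ u : P, u ≠ 1 → ¬ (p : ℤ) ∣ W u) ∧
      (∀ g ∈ pairStab P e, ∀ u v : P, u ≠ 1 → g * (u : G) * g⁻¹ = v → W v = W u) ∧
      (∀ u : P, u ≠ 1 → ∀ χ : IrrCharacter G,
        IsIntegral ℤ (val M (χ : G → ℂ) (u : G) (y : MonoidAlgebra (ResField M) G) / (W u : ℂ))) ∧
      (∀ u : P, u ≠ 1 → ∀ χ ∈ B,
        val M (χ : G → ℂ) (u : G) (y : MonoidAlgebra (ResField M) G) ≠ 0) ∧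
      ∀ u v : P, u ≠ 1 → v ≠ 1 →
        ∑ χ ∈ (Set.toFinite B).toFinset,
          val M (χ : G → ℂ) (u : G) (y : MonoidAlgebra (ResField M) G) *
            conj (val M (χ : G → ℂ) (v : G) (y : MonoidAlgebra (ResField M) G)) =
        if ∃ g ∈ pairStab P e, g * (u : G) * g⁻¹ = v then (W u : ℂ) ^ 2 * (Nat.card P : ℂ) else 0 := by
  set i := (y : MonoidAlgebra (ResField M) G) with hi
  obtain ⟨a, ha⟩ := exists_lifting h
  obtain ⟨W, c, hWgen, hW⟩ := exists_weight hM hy h hfree ha
  have hpd : Nat.card P = p ^ blockDefect p B := blockDefect_eq_of_pointed hM h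
  have hu1 : ∀ {u : P}, u ≠ 1 → (u : G) ≠ 1 := fun hu he => hu (Subtype.ext he)
  have hpow : ∀ u : P, ∃ k : ℕ, orderOf (u : G) = p ^ k := fun u => by
    obtain ⟨k, hk⟩ := IsPGroup.iff_orderOf.1 h.pair.pair.pgroup u
    exact ⟨k, by rw [← hk, Subgroup.orderOf_coe]⟩
  have hCz : ∀ u : G, Subgroup.centralizer (Subgroup.zpowers u : Set G) =
      Subgroup.centralizer ({u} : Set G) := fun u => by
    rw [Subgroup.zpowers_eq_closure, Subgroup.centralizer_closure]
  have hzP : ∀ u : P, Subgroup.zpowers (u : G) ≤ P := fun u => Subgroup.zpowers_le.2 u.2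
  have hai : ∀ u : P, a (Subgroup.zpowers (u : G)) * a (Subgroup.zpowers (u : G)) =
      a (Subgroup.zpowers (u : G)) := fun u => (ha _ (hzP u)).1
  have has : ∀ (u : P) s, s ∉ Subgroup.centralizer ({(u : G)} : Set G) →
      (a (Subgroup.zpowers (u : G))).coeff s = 0 := fun u s hs =>
    (ha _ (hzP u)).2.1 s (by rwa [hCz])
  have har : ∀ u : P, redA M (a (Subgroup.zpowers (u : G))) =
      trunc (Subgroup.zpowers (u : G)) i := fun u => (ha _ (hzP u)).2.2
  have hdlev : ∀ u : P, dlev p a (Subgroup.zpowers (u : G)) =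
      dsum p (Subgroup.centralizer ({(u : G)} : Set G) : Set G)
        (fun s => ((a (Subgroup.zpowers (u : G))).coeff s : ℂ))
        (fun s => ((a (Subgroup.zpowers (u : G))).coeff s : ℂ)) := fun u => by rw [dlev, hCz]
  have hzero : ∀ {u : P} {χ : IrrCharacter G}, χ ∉ B → val M (χ : G → ℂ) (u : G) i = 0 :=
    fun {u χ} hχ => val_eq_zero_off hM hB h.idem h.mul_block (h.fix.mono (hzP u)) hχ
  have hsec : ∀ (u : P) (χ : IrrCharacter G), val M (χ : G → ℂ) (u : G) i =
      secVal p (u : G) (fun s => ((a (Subgroup.zpowers (u : G))).coeff s : ℂ)) (χ : G → ℂ) :=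
    fun u χ => val_eq_secVal hM (CfsgLib.Char.IsIrrCharacter.isClassFunction χ.2) (hpow u)
      (h.fix.mono (hzP u)) h.idem rfl (hai u) (has u) (har u)
  have hsum : ∀ u v : P, ∑ χ ∈ (Set.toFinite B).toFinset,
      val M (χ : G → ℂ) (u : G) i * conj (val M (χ : G → ℂ) (v : G) i) =
      dsum p {g | g * (u : G) * g⁻¹ = v}
        (fun s => ((a (Subgroup.zpowers (u : G))).coeff s : ℂ))
        (fun s => ((a (Subgroup.zpowers (v : G))).coeff s : ℂ)) := by
    intro u v
    rw [← sum_secVal_mul_conj (hpow u) (hpow v)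
        (fun s hs => commute_of_supp le_rfl (has u) hs) (fun s hs => commute_of_supp le_rfl (has v) hs),
      Finset.sum_subset (Finset.subset_univ _) fun χ _ hχ => ?_]
    · exact Finset.sum_congr rfl fun χ _ => by rw [hsec u, hsec v]
    · rw [hzero fun hh => hχ ((Set.toFinite B).mem_toFinset.2 hh), zero_mul]
  have hset : ∀ u : P, {g : G | g * (u : G) * g⁻¹ = u} =
      (Subgroup.centralizer ({(u : G)} : Set G) : Set G) := fun u => by
    ext g
    simp [Subgroup.mem_centralizer_singleton_iff, mul_inv_eq_iff_eq_mul]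
  have hnorm : ∀ u : P, u ≠ 1 → ∑ χ ∈ (Set.toFinite B).toFinset,
      val M (χ : G → ℂ) (u : G) i * conj (val M (χ : G → ℂ) (u : G) i) =
        (W u : ℂ) ^ 2 * (Nat.card P : ℂ) := fun u hu => by
    rw [hsum, hset, ← hdlev, (hW u hu).2.2, hpd]
  have hinv : ∀ g ∈ pairStab P e, ∀ u v : P, g * (u : G) * g⁻¹ = v → ∀ χ : IrrCharacter G,
      val M (χ : G → ℂ) (v : G) i = val M (χ : G → ℂ) (u : G) i := fun g hg u v huv χ => by
    rw [← huv, val_conj_eq hM hy h hg (CfsgLib.Char.IsIrrCharacter.isClassFunction χ.2) u.2]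
  have hPpos : ((Nat.card P : ℕ) : ℂ) ≠ 0 := Nat.cast_ne_zero.2 Nat.card_pos.ne'
  have hWinv : ∀ g ∈ pairStab P e, ∀ u v : P, u ≠ 1 → g * (u : G) * g⁻¹ = v → W v = W u := by
    intro g hg u v hu huv
    have hv : v ≠ 1 := fun h1 => hu1 hu (by
      rw [h1] at huv
      exact conj_eq_one_iff.1 huv)
    have h2 := hnorm v hv
    simp only [hinv g hg u v huv] at h2
    rw [hnorm u hu] at h2
    have h3 := mul_right_cancel₀ hPpos h2
    refine eq_of_natAbs_eq_of_dvd (Fact.out : p.Prime) ?_ ?_ (hW v hv).1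
    · exact Int.natAbs_eq_iff_sq_eq.2 (by exact_mod_cast h3.symm)
    · have := dvd_sub (hW v hv).2.1 (hW u hu).2.1
      rwa [sub_sub_sub_cancel_right] at this
  have hpt : ∀ u : P, u ≠ 1 → ∀ χ : IrrCharacter G, ∃ (L : ℤ) (z : ℂ),
      val M (χ : G → ℂ) (u : G) i = (L : ℂ) * z ∧ IsIntegral ℤ z ∧ (χ ∈ B → z ≠ 0) ∧
        L.natAbs = (W u).natAbs := by
    intro u hu χ
    obtain ⟨ζ, hζ⟩ : ∃ ζ : ℂ, IsPrimitiveRoot ζ (orderOf (u : G)) :=
      ⟨_, Complex.isPrimitiveRoot_exp _ (orderOf_pos _).ne'⟩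
    obtain ⟨L, Q, hval, hne0, -, hD⟩ := exists_point_value hM h u.2
      (fun g hg hgu => hfree g hg _ u.2 (hu1 hu) hgu) (hai u) (has u) (har u) hζ
    rw [← hdlev, (hW u hu).2.2] at hD
    refine ⟨L, _, hval χ, isIntegral_aeval (hζ.isIntegral (orderOf_pos _)) (Q χ),
      fun hχ => hne0 χ hχ, Int.natAbs_eq_iff_sq_eq.2 ?_⟩
    have := mul_right_cancel₀ (by rw [← hpd]; exact hPpos) hD
    exact_mod_cast this.symm
  refine ⟨W, hWgen, fun u hu => (hW u hu).1, hWinv, ?_, ?_, fun u v hu hv => ?_⟩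
  rotate_left 2
  · by_cases hex : ∃ g ∈ pairStab P e, g * (u : G) * g⁻¹ = v
    · rw [if_pos hex, ← hnorm u hu]
      obtain ⟨g, hg, huv⟩ := hex
      exact Finset.sum_congr rfl fun χ _ => by rw [hinv g hg u v huv]
    rw [if_neg hex, hsum]
    set C := Subgroup.centralizer ({(u : G)} : Set G) with hC
    by_cases hne : ∃ g₀, g₀ * (u : G) * g₀⁻¹ = v
    swap
    · rw [dsum, Finset.sum_filter]
      exact Finset.sum_eq_zero fun g _ => if_neg fun hg => hne ⟨g, hg⟩
    obtain ⟨g₀, hg₀⟩ := hne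
    have hcos : {g : G | g * (u : G) * g⁻¹ = v} = (fun c => g₀ * c) '' (C : Set G) := by
      ext g
      constructor
      · intro hg
        have hg' : g * (u : G) * g⁻¹ = v := hg
        refine ⟨g₀⁻¹ * g, Subgroup.mem_centralizer_singleton_iff.2 ?_, mul_inv_cancel_left g₀ g⟩
        calc g₀⁻¹ * g * (u : G) = g₀⁻¹ * (g * (u : G) * g⁻¹) * g := by group
          _ = (u : G) * (g₀⁻¹ * g) := by rw [hg', ← hg₀]; group
      · rintro ⟨c, hc, rfl⟩
        have := Subgroup.mem_centralizer_singleton_iff.1 hc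
        show g₀ * c * (u : G) * (g₀ * c)⁻¹ = v
        rw [mul_assoc g₀ c, this, ← hg₀]
        group
    rw [hcos, dsum_translate]
    obtain ⟨fu, hfu, htu, hleu⟩ := h.exists_block (hzP u)
    obtain ⟨fv, hfv, htv, hlev⟩ := h.exists_block (hzP v)
    obtain ⟨bu, hbu, hbue⟩ := exists_eIn_eq (show IsBlockIdem C fu by rw [hC, ← hCz]; exact hfu)
    have hvu : conjSub g₀⁻¹ (Subgroup.zpowers (v : G)) = Subgroup.zpowers (u : G) := by
      rw [BlockStar.conjSub_zpowers_eq]
      congr 1
      rw [← hg₀]; group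
    have hconjblk : IsBlockIdem C (conjA g₀⁻¹ fv) := by
      have h1 := ((SLE.pairOf_iff hlev).1 h.pair).conj g₀⁻¹
      rw [hvu] at h1
      rw [hC, ← hCz]
      exact h1.pair.block
    obtain ⟨bv, hbv, hbve⟩ := exists_eIn_eq hconjblk
    have hbne : bu ≠ bv := by
      rintro rfl
      refine hex ?_
      have hf : conjA g₀ fu = fv := by
        rw [← hbue, show eIn hbu = conjA g₀⁻¹ fv from hbve, conjA_conjA, mul_inv_cancel, conjA_one]
      obtain ⟨z, hz, hzu⟩ := BlockRank.exists_stab_of_fusion h.pair h.noExt h.comm (g := g₀) hleu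
        (by rw [hg₀, hf]; exact hlev)
      exact ⟨z, hz, hzu.trans hg₀⟩
    have hcjeq : ∀ s, ((a (Subgroup.zpowers (v : G))).coeff (g₀ * s * g₀⁻¹) : ℂ) =
        ((cj g₀⁻¹ (a (Subgroup.zpowers (v : G)))).coeff s : ℂ) := fun s => by simp
    simp only [hcjeq]
    refine dsum_eq_zero_of_ne_block hM hbu hbv hbne (hai u) (by rw [← map_mul, hai v]) (has u)
      (fun s hs => ?_) (by rw [har, hbue, htu]) ?_
    · rw [coeff_cj, inv_inv]
      refine has v _ fun hh => hs ?_
      rw [hC, Subgroup.mem_centralizer_singleton_iff]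
      have := Subgroup.mem_centralizer_singleton_iff.1 hh
      rw [← hg₀] at this
      calc s * (u : G) = g₀⁻¹ * (g₀ * s * g₀⁻¹ * (g₀ * (u : G) * g₀⁻¹)) * g₀ := by group
        _ = (u : G) * s := by rw [this]; group
    · rw [redA_cj, har, hbve, ← cj_eq_conjA, ← map_mul, htv]
  all_goals intro u hu χ
  all_goals obtain ⟨L, z, hval, hint, hne0, hLW⟩ := hpt u hu χ
  · rw [hval]
    have hW0 : (W u : ℂ) ≠ 0 :=
      Int.cast_ne_zero.2 fun h0 => (hW u hu).1 (h0 ▸ dvd_zero _)
    rcases Int.natAbs_eq_natAbs_iff.1 hLW with hs | hs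
    · rw [hs, mul_div_cancel_left₀ _ hW0]; exact hint
    · rw [hs, Int.cast_neg, neg_mul, neg_div, mul_div_cancel_left₀ _ hW0]; exact hint.neg
  · intro hχ h0
    rw [hval, mul_eq_zero, Int.cast_eq_zero] at h0
    rcases h0 with h0 | h0
    · exact (hW u hu).1 (by
        rw [Int.natCast_dvd, ← hLW, h0]; simp)
    · exact hne0 hχ h0

end CfsgLib.FreeInertial
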