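import Cfsg.Agent.Lib.FreeInertial.TopPoint
import Cfsg.Agent.Lib.BlockRank.CycloBound
import Cfsg.Agent.Lib.BlockStar.Def

/-!
# The values of the characters at a point of a free section

The value of a character at a `p`-element times an idempotent fixed by it is a sum over the
`p`-regular elements; where the inertial quotient acts trivially it is a level times a
cyclotomic integer.
-/

set_option autoImplicit false
set_option maxHeartbeats 1600000
set_option synthInstance.maxHeartbeats 400000

open Cfsg CfsgLib.Blocks CfsgLib.Blocks.Pairs CfsgLib.BlockStar Polynomial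
open scoped Classical ComplexConjugate

namespace CfsgLib.FreeInertial

universe u

variable {G : Type u} [Group G] [Fintype G] {p : ℕ} [Fact p.Prime] {M : Ideal AlgInt}
  [M.IsMaximal]

theorem pp_of_pElement {x : G} (hx : ∃ k : ℕ, orderOf x = p ^ k) : pp p x = x :=
  pp_eq ⟨1, mul_one x, Commute.one_right x, hx, by simp [IsPRegular, (Fact.out : p.Prime).ne_one]⟩

theorem commute_of_supp {C : Subgroup G} {x : G} (hC : C ≤ Subgroup.centralizer {x})
    {a : MonoidAlgebra (locRing M) G} (has : ∀ s, s ∉ C → a.coeff s = 0) {s : G}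
    (hs : (a.coeff s : ℂ) ≠ 0) : Commute x s := by
  have h : s ∈ C := by
    by_contra h
    exact hs (by rw [has s h]; rfl)
  exact (Subgroup.mem_centralizer_singleton_iff.1 (hC h)).symm

/-- The value as a sum over regular elements. -/
theorem val_eq_secVal (hM : IsPModular p M) {θ : G → ℂ} (hθ : IsClassFunction G θ) {x : G}
    (hx : ∃ k : ℕ, orderOf x = p ^ k) {i : MonoidAlgebra (ResField M) G}
    (hi : ConjFixed (Subgroup.zpowers x) i) (hii : i * i = i) {C : Subgroup G}
    (hC : C = Subgroup.centralizer {x}) {a : MonoidAlgebra (locRing M) G} (hai : a * a = a)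
    (has : ∀ s, s ∉ C → a.coeff s = 0) (har : redA M a = trunc (Subgroup.zpowers x) i) :
    val M θ x i = secVal p x (fun s => (a.coeff s : ℂ)) θ := by
  haveI := Fintype.ofFinite C
  have hpp := pp_of_pElement hx
  have hafix : a ∈ fixAlg (locRing M) (Subgroup.zpowers x) := by
    refine mem_fixAlg_zpowers fun s => ?_
    by_cases hs : s ∈ C
    · congr 1
      have h := Subgroup.mem_centralizer_singleton_iff.1 (hC ▸ hs)
      rw [← h]
      group
    · rw [has s hs, has]
      intro h
      apply hs
      rw [hC, Subgroup.mem_centralizer_singleton_iff] at h ⊢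
      calc s * x = x⁻¹ * (x * s * x⁻¹ * x) * x := by group
        _ = x⁻¹ * (x * (x * s * x⁻¹)) * x := by rw [h]
        _ = x * s := by group
  have hts : trunc (Subgroup.zpowers x) (redA M a) = redA M a := by
    rw [har, trunc_trunc le_rfl]
  rw [val_eq hM hθ (mem_fixAlg.2 hi) hii hafix hai (by rw [img, hpp, hts, har]), lin_mul_single]
  have hxC : x ∈ C := by rw [hC, Subgroup.mem_centralizer_singleton_iff]
  have hcl : IsClassFunction C (fun s : C => θ ((s : G) * x)) := fun g h => by
    show θ (((h * g * h⁻¹ : C) : G) * x) = θ ((g : G) * x)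
    have hh := Subgroup.mem_centralizer_singleton_iff.1 (hC.le h.2)
    rw [show ((h * g * h⁻¹ : C) : G) * x = (h : G) * ((g : G) * x) * (h : G)⁻¹ by
      push_cast
      calc (h : G) * g * (h : G)⁻¹ * x = (h : G) * g * (h : G)⁻¹ * (x * h) * (h : G)⁻¹ := by group
        _ = _ := by rw [← hh]; group]
    exact hθ _ _
  have h1 := lin_eq_sum_regular (p := p) hM (res_idem hai has) hcl
  rw [lin_apply] at h1
  rw [← sum_supp (H := C) (fun k : G => (a.coeff k : ℂ) * θ (k * x)) fun s hs => by
    rw [has s hs]; simp, ← secVal_res (H := C) (fun s hs => by rw [has s hs]; rfl) ⟨x, hxC⟩ θ]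
  simp only [coeff_res] at h1
  rw [h1, secVal]
  refine Finset.sum_congr rfl fun s _ => ?_
  congr 1
  show θ ((s : G) * x) = θ (x * (s : G))
  rw [Subgroup.mem_centralizer_singleton_iff.1 (hC.le s.2)]

theorem val_eq_zero_off (hM : IsPModular p M) {B : Set (IrrCharacter G)} (hB : IsPBlock M B)
    {i : MonoidAlgebra (ResField M) G} (hii : i * i = i) (hBi : ebar hB * i = i) {x : G}
    (hi : ConjFixed (Subgroup.zpowers x) i) {θ : IrrCharacter G} (hθ : θ ∉ B) :
    val M (θ : G → ℂ) x i = 0 := by
  have hcl := CfsgLib.Char.IsIrrCharacter.isClassFunction θ.2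
  have hb := CfsgLib.Blocks.isPBlock_blockOf (M := M) θ
  have h0 : ebar hb * i = 0 := by
    rw [← hBi, ← mul_assoc, (isBlockIdem_ebar hb).mul_eq_zero (isBlockIdem_ebar hB)
      fun h => hθ (ebar_injective hb hB h ▸ mem_blockOf_self θ), zero_mul]
  rw [← val_blockMul hM hb (mem_blockOf_self θ) (mem_fixAlg.2 hi) hii, h0, val_zero _ _ hM hcl]

/-- The value on a `p`-subgroup is a character. -/
theorem isCharacter_val (hM : IsPModular p M) (χ : IrrCharacter G) {K : Subgroup G}
    {i : MonoidAlgebra (ResField M) G} (hi : ConjFixed K i) (hii : i * i = i) :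
    IsCharacter K (fun x : K => val M (χ : G → ℂ) x i) := by
  obtain ⟨a, ha, hai, har⟩ := exists_idem_lift (mem_fixAlg.2 hi) hii
  rw [show (fun x : K => val M (χ : G → ℂ) x i) =
    fun x : K => lin (χ : G → ℂ) (a * MonoidAlgebra.single (x : G) 1) from funext fun x =>
      val_eq hM (CfsgLib.Char.IsIrrCharacter.isClassFunction χ.2)
        (mem_fixAlg.2 (hi.mono (Subgroup.zpowers_le.2 x.2))) hii
        (fixAlg_anti (Subgroup.zpowers_le.2 x.2) ha) hai (by rw [img, har])]
  exact isCharacter_lin χ ha hai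

variable [CharP (ResField M) p]

/-- The block of the pair is determined. -/
theorem blockDefect_eq_of_pointed (hM : IsPModular p M) {B : Set (IrrCharacter G)}
    {hB : IsPBlock M B} {P : Subgroup G} {e i : MonoidAlgebra (ResField M) G}
    (h : Pointed p (ebar hB) P e i) : Nat.card P = p ^ blockDefect p B :=
  card_defectGroup hM hB ((isDefectGroup_iff_maxR hM hB).2 (maxR_of_noExt h.pair h.noExt))

/-- **The values at a point fixed only by the centralizer.** -/
theorem exists_point_value (hM : IsPModular p M) {B : Set (IrrCharacter G)} {hB : IsPBlock M B}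
    {P : Subgroup G} {e i : MonoidAlgebra (ResField M) G} (h : Pointed p (ebar hB) P e i)
    {x : G} (hxP : x ∈ P)
    (hx : ∀ g ∈ pairStab P e, g * x * g⁻¹ = x → g ∈ Subgroup.centralizer (P : Set G))
    {a : MonoidAlgebra (locRing M) G} (hai : a * a = a)
    (has : ∀ s, s ∉ Subgroup.centralizer ({x} : Set G) → a.coeff s = 0)
    (har : redA M a = trunc (Subgroup.zpowers x) i) {ζ : ℂ}
    (hζ : IsPrimitiveRoot ζ (orderOf x)) :
    ∃ (L : ℤ) (Q : IrrCharacter G → ℤ[X]),
      (∀ χ : IrrCharacter G, val M (χ : G → ℂ) x i = (L : ℂ) * aeval ζ (Q χ)) ∧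
      (∀ χ ∈ B, aeval ζ (Q χ) ≠ 0) ∧ (∃ χ ∈ B, ¬ MemLocalIdeal M (aeval ζ (Q χ))) ∧
      dsum p (Subgroup.centralizer ({x} : Set G) : Set G) (fun s => (a.coeff s : ℂ))
        (fun s => (a.coeff s : ℂ)) = (L : ℂ) ^ 2 * ((p ^ blockDefect p B : ℕ) : ℂ) := by
  have hxpow : ∃ k : ℕ, orderOf x = p ^ k := by
    obtain ⟨k, hk⟩ := IsPGroup.iff_orderOf.1 h.pair.pair.pgroup ⟨x, hxP⟩
    exact ⟨k, by rw [← hk, Subgroup.orderOf_mk]⟩
  set C := Subgroup.centralizer ({x} : Set G) with hC
  haveI := Fintype.ofFinite C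
  have hz : Subgroup.zpowers x ≤ P := Subgroup.zpowers_le.2 hxP
  have hCz : C = Subgroup.centralizer (Subgroup.zpowers x : Set G) := by
    rw [hC, Subgroup.zpowers_eq_closure, Subgroup.centralizer_closure]
  obtain ⟨b, hb, hle, htb, hloc, hst⟩ := h.localPointed hz hCz
  have hind : IsInducedBlock M C b B :=
    (BlockRank.isInducedBlock_singleton_iff hM (CfsgLib.Blocks.isPGroup_zpowers hxpow.choose_spec) hB hb).2
      ((SLE.pairOf_iff hle).1 h.pair)
  have hPC : P ≤ C := hCz ▸ le_centralizer_of_comm h.comm hz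
  have hdef : blockDefect p b = blockDefect p B := by
    refine Nat.pow_right_injective (Fact.out : p.Prime).two_le ?_
    show p ^ blockDefect p b = p ^ blockDefect p B
    rw [← blockDefect_eq_of_pointed hM h, ← blockDefect_eq_of_pointed hM hloc]
    exact Nat.card_congr (Subgroup.subgroupOfEquivOfLe hPC).toEquiv
  have hl : blockRank p b = 1 :=
    (BlockRank.rankOne_of_trivial_inertial hM hb hloc.pair hloc.noExt hloc.comm fun g hg => by
      have hgx : (g : G) * x * (g : G)⁻¹ = x := by
        have h1 := Subgroup.mem_centralizer_singleton_iff.1 (hC.le g.2)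
        rw [h1, mul_inv_cancel_right]
      refine Subgroup.mem_centralizer_iff.2 fun y hy => Subtype.ext ?_
      exact Subgroup.mem_centralizer_iff.1 (hx _ (hst g hg) hgx) _ (Subgroup.mem_subgroupOf.1 hy)).1
  obtain ⟨L, Q, hval, h0, h1, hD⟩ := exists_section_value (a := a) hM hxpow rfl hind hdef hl hζ hai has
    (by rw [har]; exact htb)
  refine ⟨L, Q, fun χ => ?_, h0, h1, hD⟩
  rw [val_eq_secVal hM (CfsgLib.Char.IsIrrCharacter.isClassFunction χ.2) hxpow (h.fix.mono hz)
    h.idem rfl hai has har, hval]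

end CfsgLib.FreeInertial
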