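import Cfsg.Agent.Lib.BlockRank.NilpotentAbelian
import Cfsg.Agent.Lib.BlockStar.IdemAlg
import Cfsg.Agent.Lib.BlockStar.Fixed

/-!
# A primitive idempotent at a maximal pair with abelian defect group

A primitive idempotent of the fixed algebra of `P` with Brauer image in the pair `(P, e)` lies, at
every subgroup of `P`, in the block of the pair below `(P, e)`, and restricts to such an
idempotent for the centralizer of the subgroup.
-/

set_option autoImplicit false
set_option maxHeartbeats 1000000
set_option synthInstance.maxHeartbeats 200000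

open Cfsg CfsgLib.Blocks CfsgLib.Blocks.Pairs CfsgLib.BlockStar
open scoped Classical

namespace CfsgLib.FreeInertial

universe u

variable {G : Type u} [Group G] [Finite G] {p : ℕ} [Fact p.Prime] {M : Ideal AlgInt} [M.IsMaximal]
  [CharP (ResField M) p]

/-- An idempotent at the maximal pair `(P, e)` of `B` lying in one block at each subgroup. -/
structure Pointed (p : ℕ) (B : MonoidAlgebra (ResField M) G) (P : Subgroup G)
    (e i : MonoidAlgebra (ResField M) G) : Prop where
  pair : PairOf p B P e
  noExt : NoExt p P e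
  comm : ∀ x ∈ P, ∀ y ∈ P, x * y = y * x
  fix : ConjFixed P i
  idem : i * i = i
  top_ne : trunc P i * e ≠ 0
  dich : ∀ R ≤ P, ∀ f, IsBlockIdem (Subgroup.centralizer (R : Set G)) f →
    trunc R i * f = 0 ∨ trunc R i * f = trunc R i

theorem le_centralizer_of_comm {P R : Subgroup G} (hab : ∀ x ∈ P, ∀ y ∈ P, x * y = y * x)
    (hR : R ≤ P) : P ≤ Subgroup.centralizer (R : Set G) :=
  fun x hx => Subgroup.mem_centralizer_iff.2 fun r hr => hab r (hR hr) x hx

/-- Existence, with the idempotent primitive in the fixed algebra. -/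
theorem exists_pointed {B e : MonoidAlgebra (ResField M) G} {P : Subgroup G}
    (hP : PairOf p B P e) (hno : NoExt p P e) (hab : ∀ x ∈ P, ∀ y ∈ P, x * y = y * x) :
    ∃ y : fixAlg (ResField M) P, Prim y ∧
      Pointed p B P e (y : MonoidAlgebra (ResField M) G) := by
  set A := fixAlg (ResField M) P
  have hfd : FiniteDimensional (ResField M) A := inferInstance
  obtain ⟨y, hy, hye⟩ : ∃ y : A, Prim y ∧ trunc P (y : MonoidAlgebra (ResField M) G) * e ≠ 0 := by
    by_contra hcon
    push Not at hcon
    have h := idem_induction (ResField M)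
      (P := fun y : A => trunc P (y : MonoidAlgebra (ResField M) G) * e = 0)
      (by simp) hcon (fun a b _ _ _ _ ha hb => by simp [trunc_add, add_mul, ha, hb]) 1 (one_mul 1)
    rw [OneMemClass.coe_one, trunc_one, one_mul] at h
    exact hP.pair.block.ne_zero h
  refine ⟨y, hy, hP, hno, hab, mem_fixAlg.1 y.2,
    congrArg Subtype.val hy.1, hye, fun R hR f hf => ?_⟩
  have hpR : IsPGroup p R := hP.pair.pgroup.to_le hR
  have hfP : f ∈ A := mem_fixAlg.2 (hf.mem.fixed.mono (le_centralizer_of_comm hab hR))
  have hfix : ∀ {a : A}, ConjFixed R (a : MonoidAlgebra (ResField M) G) := fun {a} =>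
    (mem_fixAlg.1 a.2).mono hR
  let τ : A →+* MonoidAlgebra (ResField M) G :=
    { toFun := fun a => trunc R (a : MonoidAlgebra (ResField M) G)
      map_one' := by simp
      map_mul' := fun a b => trunc_mul hpR hfix hfix
      map_zero' := by simp
      map_add' := fun a b => by simp [trunc_add] }
  set t := trunc R (y : MonoidAlgebra (ResField M) G) with ht
  have ht2 : t * t = t := (map_mul τ y y).symm.trans (congrArg τ hy.1)
  have hfy : f * t = t * f :=
    (mul_comm_of_suppIn (trunc_suppIn _ _) hf.mem.fixed).symm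
  have htf : t * f * (t * f) = t * f := by
    rw [mul_assoc, ← mul_assoc f, hfy, mul_assoc, hf.idem, ← mul_assoc, ht2]
  set c : A := y * ⟨f, hfP⟩ * y with hc
  have hτc : τ c = t * f := by
    rw [hc, map_mul, map_mul, show τ ⟨f, hfP⟩ = f from trunc_eq_self hf.mem.supp]
    show t * f * t = t * f
    rw [mul_assoc, hfy, ← mul_assoc, ht2]
  have h1 : y * c = c := by rw [hc, ← mul_assoc, ← mul_assoc, hy.1]
  have h2 : c * y = c := by rw [hc, mul_assoc, hy.1]
  rcases hy.nilpotent_or_unit (ResField M) h1 h2 with hn | ⟨d, -, -, hcd, -⟩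
  · left
    refine BlockStar.eq_zero_of_idem_nilpotent htf ?_
    rw [← hτc]
    exact hn.map τ
  · right
    have h3 : t * f * τ d = t := by rw [← hτc, ← map_mul, hcd]; rfl
    calc t * f = t * f * t := by rw [mul_assoc, hfy, ← mul_assoc, ht2]
      _ = t * f * (t * f * τ d) := by rw [h3]
      _ = t := by rw [← mul_assoc, htf, h3]

variable {B e i : MonoidAlgebra (ResField M) G} {P R : Subgroup G}

theorem Pointed.trunc_ne (h : Pointed p B P e i) (hR : R ≤ P) : trunc R i ≠ 0 := fun h0 => by
  apply h.top_ne
  rw [← trunc_trunc hR, h0, trunc_zero, zero_mul]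

theorem Pointed.trunc_idem (h : Pointed p B P e i) (hR : R ≤ P) :
    trunc R i * trunc R i = trunc R i := by
  rw [← trunc_mul (h.pair.pair.pgroup.to_le hR) (h.fix.mono hR) (h.fix.mono hR), h.idem]

theorem Pointed.trunc_fix (h : Pointed p B P e i) (hR : R ≤ P) : ConjFixed P (trunc R i) :=
  trunc_conjFixed ((le_centralizer_of_comm h.comm hR).trans (Subgroup.centralizer_le_normalizer _))
    h.fix

/-- A block not killing the image at `R` fixes it and is the one below `(P, e)`. -/
theorem Pointed.sle_of_mul_ne (h : Pointed p B P e i) (hR : R ≤ P)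
    {f : MonoidAlgebra (ResField M) G} (hf : IsBlockIdem (Subgroup.centralizer (R : Set G)) f)
    (hne : trunc R i * f ≠ 0) : trunc R i * f = trunc R i ∧ SLE p R f P e := by
  have htf := (h.dich R hR f hf).resolve_left hne
  refine ⟨htf, (NS.sle ⟨⟨h.pair.pair.pgroup.to_le hR, hf⟩, h.pair.pair, hR,
    (le_centralizer_of_comm h.comm hR).trans (Subgroup.centralizer_le_normalizer _),
    hf.mem.fixed.mono (le_centralizer_of_comm h.comm hR), ?_⟩)⟩
  have hfP : ConjFixed P f := hf.mem.fixed.mono (le_centralizer_of_comm h.comm hR)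
  have hC : Subgroup.centralizer (P : Set G) ≤ Subgroup.centralizer (R : Set G) :=
    centralizer_anti hR
  have hz : InCenter (Subgroup.centralizer (P : Set G)) (trunc P f) :=
    trunc_inCenter (hf.mem.fixed.mono hC)
  have hzi : trunc P f * trunc P f = trunc P f := by
    rw [← trunc_mul h.pair.pair.pgroup hfP hfP, hf.idem]
  refine (h.pair.pair.block.prim _ hz hzi).resolve_right fun h0 => h.top_ne ?_
  have hPR : trunc P i = trunc P i * trunc P f := by
    conv_lhs => rw [← trunc_trunc hR i, ← htf, trunc_mul h.pair.pair.pgroup (h.trunc_fix hR) hfP,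
      trunc_trunc hR]
  rw [hPR, mul_assoc, h0, mul_zero]

theorem Pointed.exists_block (h : Pointed p B P e i) (hR : R ≤ P) :
    ∃ f, IsBlockIdem (Subgroup.centralizer (R : Set G)) f ∧ trunc R i * f = trunc R i ∧
      SLE p R f P e := by
  obtain ⟨f, hf, hne⟩ : ∃ f, IsBlockIdem (Subgroup.centralizer (R : Set G)) f ∧
      trunc R i * f ≠ 0 := by
    by_contra hc
    push Not at hc
    refine h.trunc_ne hR ?_
    rw [← mul_one (trunc R i), ← sum_blks (Subgroup.centralizer (R : Set G)), Finset.mul_sum]
    exact Finset.sum_eq_zero fun f hf => hc f (mem_blks.1 hf)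
  obtain ⟨h1, h2⟩ := h.sle_of_mul_ne hR hf hne
  exact ⟨f, hf, h1, h2⟩

/-- The idempotent lies in the block. -/
theorem Pointed.mul_block (h : Pointed p B P e i) : B * i = i := by
  have hC : Subgroup.centralizer ((⊥ : Subgroup G) : Set G) = ⊤ :=
    (Subgroup.eq_top_iff' _).2 fun x => Subgroup.mem_centralizer_iff.2 fun y hy => by
      rw [Subgroup.mem_bot.1 hy]; simp
  have hbot : ∀ a : MonoidAlgebra (ResField M) G, trunc ⊥ a = a := fun a =>
    trunc_eq_self fun x hx => absurd (hC ▸ Subgroup.mem_top x) hx
  obtain ⟨f, hf, htf, hle⟩ := h.exists_block (bot_le : ⊥ ≤ P)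
  rw [hbot] at htf
  have hfB := ((SLE.pairOf_iff hle).1 h.pair).br
  rw [hbot] at hfB
  rw [hC] at hf
  have : B = f := h.pair.blockB.eq_of_mul_ne_zero hf (by rw [hfB]; exact hf.ne_zero)
  rw [this, ← mul_comm_of_suppIn (fun x hx => absurd (Subgroup.mem_top x) hx) hf.mem.fixed, htf]

/-- **Restriction to the centralizer of a subgroup.** -/
theorem Pointed.localPointed {M : Ideal AlgInt} [M.IsMaximal] [CharP (ResField M) p]
    {B e i : MonoidAlgebra (ResField M) G} {P R H : Subgroup G} (h : Pointed p B P e i) (hR : R ≤ P)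
    (hH : H = Subgroup.centralizer (R : Set G)) :
    ∃ (b : Set (IrrCharacter H)) (hb : IsPBlock M b), SLE p R (eIn hb) P e ∧
      trunc R i * eIn hb = trunc R i ∧
      Pointed p (ebar hb) (P.subgroupOf H) (down H e) (down H (trunc R i)) ∧
      ∀ y ∈ pairStab (P.subgroupOf H) (down H e), (y : G) ∈ pairStab P e := by
  obtain ⟨f, hf, htf, hle⟩ := h.exists_block hR
  obtain ⟨b, hb, rfl⟩ := exists_eIn_eq (hH.symm ▸ hf)
  obtain ⟨hP', hno', hst⟩ := BlockRank.local_pair hH h.pair h.noExt h.comm hle
  rw [show down H (eIn hb) = ebar hb by rw [eIn, down_up]] at hP'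
  refine ⟨b, hb, hle, htf, ?_, hst⟩
  have hPH : P ≤ H := hH ▸ le_centralizer_of_comm h.comm hR
  have hmap : (P.subgroupOf H).map H.subtype = P := Subgroup.map_subgroupOf_eq_of_le hPH
  have hts : SuppIn H (trunc R i) := hH ▸ trunc_suppIn R i
  have hes : SuppIn H e := hH ▸ h.pair.pair.block.mem.supp.mono (centralizer_anti hR)
  refine ⟨hP', hno', fun x hx y hy => Subtype.ext (h.comm _ hx _ hy), ?_, ?_, ?_, ?_⟩
  · rw [← conjFixed_up_iff, hmap, up_down hts]
    exact h.trunc_fix hR
  · refine up_injective H ?_
    rw [up_mul, up_down hts, h.trunc_idem hR]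
  · intro h0
    apply h.top_ne
    have := congrArg (up H) h0
    rw [up_mul, up_trunc, hmap, up_down hts, up_down hes, up_zero, trunc_trunc hR] at this
    exact this
  · intro R' hR' g hg
    set S := R'.map H.subtype with hS
    have hSP : S ≤ P := hmap ▸ Subgroup.map_mono hR'
    have hle' : R ⊔ S ≤ P := sup_le hR hSP
    have hmapC : (Subgroup.centralizer (R' : Set H)).map H.subtype =
        Subgroup.centralizer ((R ⊔ S : Subgroup G) : Set G) := by
      rw [centralizer_subgroupOf_map]
      apply le_antisymm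
      · rintro _ ⟨x, hx, rfl⟩
        have hxS := Subgroup.mem_subgroupOf.1 hx
        have hxR : (x : G) ∈ Subgroup.centralizer (R : Set G) := hH ▸ x.2
        rw [Subgroup.sup_eq_closure, Subgroup.centralizer_closure, Subgroup.mem_centralizer_iff]
        rintro z (hz | hz)
        · exact Subgroup.mem_centralizer_iff.1 hxR z hz
        · exact Subgroup.mem_centralizer_iff.1 hxS z hz
      · intro x hx
        have hxH : x ∈ H := hH ▸ centralizer_anti le_sup_left hx
        exact ⟨⟨x, hxH⟩, Subgroup.mem_subgroupOf.2 (centralizer_anti le_sup_right hx), rfl⟩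
    have hg' : IsBlockIdem (Subgroup.centralizer ((R ⊔ S : Subgroup G) : Set G)) (up H g) := by
      rw [← hmapC, isBlockIdem_up_iff]
      exact hg
    have e1 : up H (trunc R' (down H (trunc R i))) = trunc (R ⊔ S) i := by
      rw [up_trunc, up_down hts]
      ext x
      simp only [coeff_trunc]
      have hiff : (x ∈ Subgroup.centralizer (R : Set G) ∧ x ∈ Subgroup.centralizer (S : Set G)) ↔
          x ∈ Subgroup.centralizer ((R ⊔ S : Subgroup G) : Set G) := by
        rw [Subgroup.sup_eq_closure, Subgroup.centralizer_closure]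
        simp only [Subgroup.mem_centralizer_iff, Set.mem_union, SetLike.mem_coe]
        exact ⟨fun h z hz => hz.elim (h.1 z) (h.2 z), fun h => ⟨fun z hz => h z (Or.inl hz),
          fun z hz => h z (Or.inr hz)⟩⟩
      rw [← ite_and]
      exact if_congr (and_comm.trans hiff) rfl rfl
    rcases h.dich (R ⊔ S) hle' _ hg' with h0 | h1
    · left
      refine up_injective H ?_
      rw [up_mul, e1, h0, up_zero]
    · right
      refine up_injective H ?_
      rw [up_mul, e1, h1]

end CfsgLib.FreeInertial
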