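import Cfsg.Agent.Lib.FreeInertial.Sums
import Cfsg.Agent.Lib.BlockRank.RankOneMajor
import Cfsg.Agent.Lib.Blocks.Pairs.Bridge

/-!
# The values of the characters on a major section of rank one, cut by an idempotent
-/

set_option autoImplicit false
set_option maxHeartbeats 1600000
set_option synthInstance.maxHeartbeats 400000

open Cfsg CfsgLib.Blocks CfsgLib.Blocks.Pairs CfsgLib.BlockStar Polynomial
open scoped Classical ComplexConjugate

namespace CfsgLib.FreeInertial

universe u

/-- Restriction of coefficients to a subgroup. -/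
noncomputable def res {G : Type u} [Group G] [Finite G] {R : Type*} [CommRing R] (H : Subgroup G)
    (a : MonoidAlgebra R G) : MonoidAlgebra R H :=
  ofFun fun s => a.coeff (s : G)

variable {G : Type u} [Group G] [Fintype G] {p : ℕ} [Fact p.Prime] {M : Ideal AlgInt} [M.IsMaximal]

omit [Fact p.Prime] [M.IsMaximal] in
@[simp] theorem coeff_res {R : Type*} [CommRing R] (H : Subgroup G) (a : MonoidAlgebra R G) (s : H) :
    (res H a).coeff s = a.coeff (s : G) := by simp [res]

omit [Fact p.Prime] [M.IsMaximal] in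
theorem sum_supp {H : Subgroup G} [Fintype H] (f : G → ℂ) (hf : ∀ s, s ∉ H → f s = 0) :
    ∑ s : H, f s = ∑ s : G, f s := by
  rw [← Finset.sum_subset (Finset.subset_univ
    ((Finset.univ : Finset H).map ⟨Subtype.val, Subtype.val_injective⟩)) (fun s _ hs => hf s
      fun h => hs (Finset.mem_map.2 ⟨⟨s, h⟩, Finset.mem_univ _, rfl⟩)), Finset.sum_map]
  rfl

omit [Fact p.Prime] [M.IsMaximal] in
theorem res_idem {R : Type*} [CommRing R] {H : Subgroup G} {a : MonoidAlgebra R G}
    (ha : a * a = a) (hs : ∀ s, s ∉ H → a.coeff s = 0) : res H a * res H a = res H a := by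
  haveI := Fintype.ofFinite H
  ext c
  rw [coeff_res, coeff_mul_group]
  conv_rhs => rw [← ha, coeff_mul_group]
  rw [← Finset.sum_subset (Finset.subset_univ
    ((Finset.univ : Finset H).map ⟨Subtype.val, Subtype.val_injective⟩)) (fun s _ h => by
      rw [hs s fun hH => h (Finset.mem_map.2 ⟨⟨s, hH⟩, Finset.mem_univ _, rfl⟩), zero_mul]),
    Finset.sum_map]
  simp

omit [Fact p.Prime] in
theorem redA_res (H : Subgroup G) (a : MonoidAlgebra (locRing M) G) :
    redA M (res H a) = down H (redA M a) := by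
  ext s; simp

omit [Fact p.Prime] [M.IsMaximal] in
theorem secVal_res {H : Subgroup G} [Fintype H] {a : G → ℂ} (hs : ∀ s, s ∉ H → a s = 0)
    (u : H) (χ : G → ℂ) :
    secVal p u (fun s : H => a s) (fun s : H => χ s) = secVal p (u : G) a χ := by
  simp only [secVal, Finset.sum_filter]
  rw [← sum_supp (H := H) (fun s : G => if IsPRegular p s then a s * χ ((u : G) * s) else 0)
    fun s h => by rw [hs s h, zero_mul, ite_self]]
  refine Finset.sum_congr rfl fun s _ => ?_
  exact if_congr (by rw [IsPRegular, IsPRegular, Subgroup.orderOf_coe]) rfl rfl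

omit [Fact p.Prime] [M.IsMaximal] in
theorem dsum_res {H : Subgroup G} [Fintype H] (S : Set H) {a b : G → ℂ}
    (ha : ∀ s, s ∉ H → a s = 0) :
    dsum p S (fun s : H => a s) (fun s : H => b s) = dsum p (Subtype.val '' S) a b := by
  simp only [dsum, Finset.sum_filter]
  rw [← sum_supp (H := H) (fun g : G => if g ∈ Subtype.val '' S then
    ∑ s, if IsPRegular p s then a s * conj (b (g * s * g⁻¹)) else 0 else 0) fun g hg =>
      if_neg fun ⟨x, _, hx⟩ => hg (hx ▸ x.2)]
  refine Finset.sum_congr rfl fun g _ => if_congr (by simp) ?_ rfl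
  rw [← sum_supp (H := H) (fun s : G => if IsPRegular p s then
    a s * conj (b ((g : G) * s * (g : G)⁻¹)) else 0) fun s h => by rw [ha s h, zero_mul, ite_self]]
  refine Finset.sum_congr rfl fun s _ => ?_
  exact if_congr (by rw [IsPRegular, IsPRegular, Subgroup.orderOf_coe]) rfl rfl

variable [CharP (ResField M) p]

/-- An idempotent in a block pairs to zero with the characters outside it. -/
theorem lin_eq_zero_off (hM : IsPModular p M) {b : Set (IrrCharacter G)} (hb : IsPBlock M b)
    {a : MonoidAlgebra (locRing M) G} (ha : a * a = a) (hab : ebar hb * redA M a = redA M a)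
    {θ : IrrCharacter G} (hθ : θ ∉ b) : lin (θ : G → ℂ) a = 0 := by
  have hcl := CfsgLib.Char.IsIrrCharacter.isClassFunction θ.2
  have hfix : ∀ {R : Type} [CommRing R] (y : MonoidAlgebra R G),
      y ∈ fixAlg R (Subgroup.zpowers (1 : G)) := fun y => mem_fixAlg_zpowers fun x => by simp
  have hi : redA M a * redA M a = redA M a := by rw [← map_mul, ha]
  have h1 : val M (θ : G → ℂ) 1 (redA M a) = lin (θ : G → ℂ) a := by
    rw [val_eq hM hcl (hfix _) hi (hfix a) ha rfl, ← MonoidAlgebra.one_def, mul_one]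
  have hb' := CfsgLib.Blocks.isPBlock_blockOf (M := M) θ
  have hne : b ≠ blockOf M (θ : G → ℂ) := fun h => hθ (h ▸ mem_blockOf_self θ)
  have h0 : ebar hb' * redA M a = 0 := by
    rw [← hab, ← mul_assoc, (isBlockIdem_ebar hb').mul_eq_zero (isBlockIdem_ebar hb)
      fun h => hne (ebar_injective hb' hb h).symm, zero_mul]
  rw [← h1, ← val_blockMul hM hb' (mem_blockOf_self θ) (hfix _) hi, h0, val_zero _ _ hM hcl]

/-- **The value on a major section of rank one.** -/
theorem exists_section_value (hM : IsPModular p M) {B : Set (IrrCharacter G)} {x : G}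
    (hx : ∃ k : ℕ, orderOf x = p ^ k) {C : Subgroup G} [Fintype C]
    (hC : C = Subgroup.centralizer {x}) {b : Set (IrrCharacter C)}
    (hind : IsInducedBlock M C b B) (hdef : blockDefect p b = blockDefect p B)
    (hl : blockRank p b = 1) {ζ : ℂ} (hζ : IsPrimitiveRoot ζ (orderOf x))
    {a : MonoidAlgebra (locRing M) G} (hai : a * a = a) (has : ∀ s, s ∉ C → a.coeff s = 0)
    (hab : redA M a * eIn hind.1 = redA M a) :
    ∃ (L : ℤ) (Q : IrrCharacter G → ℤ[X]),
      (∀ χ : IrrCharacter G, secVal p x (fun s => (a.coeff s : ℂ)) (χ : G → ℂ) =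
        (L : ℂ) * aeval ζ (Q χ)) ∧
      (∀ χ ∈ B, aeval ζ (Q χ) ≠ 0) ∧ (∃ χ ∈ B, ¬ MemLocalIdeal M (aeval ζ (Q χ))) ∧
      dsum p (C : Set G) (fun s => (a.coeff s : ℂ)) (fun s => (a.coeff s : ℂ)) =
        (L : ℂ) ^ 2 * ((p ^ blockDefect p B : ℕ) : ℂ) := by
  haveI := Fintype.ofFinite b
  set aC := res C a with haC
  have haCi : aC * aC = aC := res_idem hai has
  have haCb : ebar hind.1 * redA M aC = redA M aC := by
    have hs : SuppIn C (redA M a) := fun s h => by rw [coeff_redA, has s h, map_zero]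
    rw [haC, redA_res]
    refine up_injective C ?_
    rw [up_mul, up_down hs]
    show eIn hind.1 * redA M a = redA M a
    rw [← mul_comm_of_suppIn hs (isBlockIdem_eIn hind.1).mem.fixed]
    exact hab
  obtain ⟨φ₀, n, z, hφdef, hz, hzsum⟩ := BlockRank.exists_rankOne_data hM hind.1 hl
  -- the level
  have hlinC : ∀ θ : IrrCharacter C, ∃ N : ℕ, lin (θ : C → ℂ) aC = (N : ℂ) := by
    intro θ
    have h := CfsgLib.Char.IsCharacter.exists_degree (isCharacter_lin θ
      (K := (⊥ : Subgroup C)) (a := aC) (mem_fixAlg.2 fun u hu s => by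
        rw [Subgroup.mem_bot.1 hu]; simp) haCi)
    simpa [← MonoidAlgebra.one_def] using h
  choose N hN using hlinC
  set L : ℤ := ∑ ψ ∈ b.toFinset, n ψ * (N ψ : ℤ) with hLdef
  have hreg : ∀ {Θ : C → ℂ}, IsClassFunction C Θ → lin Θ aC =
      ∑ s ∈ Finset.univ.filter (IsPRegular p), (aC.coeff s : ℂ) * Θ s := fun h =>
    lin_eq_sum_regular hM haCi h
  have hclφ : IsClassFunction C φ₀ := fun g h => by
    rw [hφdef]
    exact Finset.sum_congr rfl fun ψ _ => by rw [CfsgLib.Char.IsIrrCharacter.isClassFunction ψ.2 g h]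
  have hL : (L : ℂ) = lin φ₀ aC := by
    rw [hLdef, lin_apply, hφdef]
    push_cast
    simp only [Finset.mul_sum]
    rw [Finset.sum_comm]
    refine Finset.sum_congr rfl fun ψ _ => ?_
    rw [← hN, lin_apply, Finset.mul_sum]
    exact Finset.sum_congr rfl fun s _ => by ring
  have hzL : ∀ θ ∈ b, lin (θ : C → ℂ) aC = (z θ : ℂ) * L := by
    intro θ hθ
    rw [hreg (CfsgLib.Char.IsIrrCharacter.isClassFunction θ.2), hL, hreg hclφ, Finset.mul_sum]
    refine Finset.sum_congr rfl fun s hs => ?_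
    rw [hz θ hθ s (Finset.mem_filter.1 hs).2]
    ring
  have hz0 : ∀ θ, θ ∉ b → lin (θ : C → ℂ) aC = 0 := fun θ hθ =>
    lin_eq_zero_off hM hind.1 haCi haCb hθ
  choose m i hmi using BlockRank.exists_blockPart_translate (G := G) hC hζ
  let Q : IrrCharacter G → ℤ[X] := fun χ =>
    ∑ φ ∈ b.toFinset, Polynomial.C ((m χ φ : ℤ) * (z φ : ℤ)) * X ^ i χ φ
  have hQ : ∀ χ, aeval ζ (Q χ) = ∑ φ ∈ b.toFinset, (m χ φ : ℂ) * (z φ : ℂ) * ζ ^ i χ φ := fun χ => by
    simp [Q]
  have hxC : x ∈ C := by rw [hC, Subgroup.mem_centralizer_singleton_iff]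
  have hval : ∀ χ : IrrCharacter G, secVal p x (fun s => (a.coeff s : ℂ)) (χ : G → ℂ) =
      (L : ℂ) * aeval ζ (Q χ) := by
    intro χ
    haveI := Fintype.ofFinite (Set.univ : Set (IrrCharacter C))
    have hΘ := BlockRank.isClassFunction_translate hC χ
    have hexp : ∀ s : C, (χ : G → ℂ) (x * (s : G)) =
        ∑ φ : IrrCharacter C, (m χ φ : ℂ) * ζ ^ i χ φ * (φ : C → ℂ) s := by
      intro s
      have h := (hmi χ).2 Set.univ s
      rw [Set.toFinset_univ, BlockRank.blockPart_apply, Set.toFinset_univ] at h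
      rw [← h]
      have h2 := congrFun (CfsgLib.Char.IsClassFunction.eq_sum_classInner hΘ) s
      simpa [Finset.sum_apply] using h2
    have e1 : lin (fun c : C => (χ : G → ℂ) (x * (c : G))) aC =
        secVal p x (fun s => (a.coeff s : ℂ)) (χ : G → ℂ) := by
      rw [hreg hΘ, ← secVal_res (H := C) (fun s h => by rw [has s h]; rfl) ⟨x, hxC⟩ (χ : G → ℂ)]
      simp only [secVal, haC, coeff_res]
      rfl
    rw [← e1, hQ, Finset.mul_sum, lin_apply]
    simp only [hexp, Finset.mul_sum]
    rw [Finset.sum_comm]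
    calc ∑ φ : IrrCharacter C, ∑ s, (aC.coeff s : ℂ) * ((m χ φ : ℂ) * ζ ^ i χ φ * (φ : C → ℂ) s)
        = ∑ φ : IrrCharacter C, (m χ φ : ℂ) * ζ ^ i χ φ * lin (φ : C → ℂ) aC := by
          refine Finset.sum_congr rfl fun φ _ => ?_
          rw [lin_apply, Finset.mul_sum]
          exact Finset.sum_congr rfl fun s _ => by ring
      _ = ∑ φ ∈ b.toFinset, (m χ φ : ℂ) * ζ ^ i χ φ * lin (φ : C → ℂ) aC := by
          refine (Finset.sum_subset (Finset.subset_univ _) fun φ _ hφ => ?_).symm
          rw [hz0 φ fun h => hφ (Set.mem_toFinset.2 h), mul_zero]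
      _ = _ := by
          refine Finset.sum_congr rfl fun φ hφ => ?_
          rw [hzL φ (Set.mem_toFinset.1 hφ)]
          ring
  refine ⟨L, Q, hval, fun χ hχ h0 => ?_, ?_, ?_⟩
  · obtain ⟨ψ, hψ, hh⟩ := BlockReg.exists_minExp (p := p) (BlockReg.block_nonempty hM hind.2.1)
    refine BlockRank.contrib_ne_zero hM hC hx hind hdef hχ hψ hh ?_
    rw [BlockRank.contrib, BlockRank.regPair, Finset.sum_eq_zero fun s hs => ?_, mul_zero, mul_zero]
    have hb0 : blockPart b (fun c : C => (χ : G → ℂ) (x * c)) s = 0 := by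
      rw [(hmi χ).2 b s]
      have h1 : ∀ φ ∈ b.toFinset, (m χ φ : ℂ) * ζ ^ i χ φ * (φ : C → ℂ) s =
          (m χ φ : ℂ) * (z φ : ℂ) * ζ ^ i χ φ * φ₀ s := fun φ hφ => by
        rw [hz φ (Set.mem_toFinset.1 hφ) s (Finset.mem_filter.1 hs).2]
        ring
      rw [Finset.sum_congr rfl h1, ← Finset.sum_mul, ← hQ, h0, zero_mul]
    rw [hb0, zero_mul]
  · obtain ⟨ψ, hψ, hh⟩ := BlockReg.exists_minExp (p := p) (BlockReg.block_nonempty hM hind.2.1)
    refine ⟨ψ, hψ, fun hmem => BlockRank.not_memIdeal_degree_blockPart hM hind hψ hh (m ψ)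
      (hmi ψ).1 ?_⟩
    have h1reg : IsPRegular p (1 : C) := by simp [IsPRegular, hM.1.ne_one]
    have hsum : MemLocalIdeal M (∑ φ ∈ b.toFinset, (m ψ φ : ℂ) * (z φ : ℂ)) := by
      have hd : MemLocalIdeal M
          (aeval ζ (Q ψ) - ∑ φ ∈ b.toFinset, (m ψ φ : ℂ) * (z φ : ℂ)) := by
        rw [hQ, ← Finset.sum_sub_distrib]
        refine BlockReg.memIdeal_sum hM _ fun φ _ => ?_
        rw [← mul_sub_one]
        refine BlockReg.memIdeal_mul_left hM (BlockReg.memRing_mul hM
          (BlockReg.memRing_natCast hM _) (BlockReg.memRing_natCast hM _)) ?_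
        obtain ⟨k, hk⟩ := hx
        have hR : ζ ^ i ψ φ ∈ locRing M :=
          BlockReg.memRing_algInt hM ((hζ.isIntegral (orderOf_pos x)).pow _)
        rw [← OneMemClass.coe_one (locRing M), memLocalIdeal_sub_iff (x := ⟨ζ ^ i ψ φ, hR⟩), map_one]
        refine red_eq_one_of_pow_prime_pow hM.1 hM.2.2 (k := k) (Subtype.ext ?_)
        show (ζ ^ i ψ φ) ^ p ^ k = 1
        rw [← pow_mul, mul_comm, pow_mul, ← hk, hζ.pow_eq_one, one_pow]
      have := BlockReg.memIdeal_sub hM hmem hd
      rwa [sub_sub_cancel] at this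
    have hgR : MemLocalRing M (φ₀ 1 / ((p ^ BlockReg.minExp p b : ℕ) : ℂ)) := by
      rw [hφdef]
      simp only [Finset.sum_div]
      refine BlockReg.memRing_sum hM _ fun φ hφ => ?_
      rw [← BlockReg.deg_cast, mul_div_assoc]
      exact BlockReg.memRing_mul hM (BlockReg.memRing_intCast hM _)
        (BlockRank.deg_div_memRing hM (Set.mem_toFinset.mp hφ))
    have h2 := BlockReg.memIdeal_mul_right hM hsum hgR
    rw [Finset.sum_mul] at h2
    convert h2 using 1
    refine Finset.sum_congr rfl fun φ hφ => ?_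
    rw [BlockReg.deg_cast, hz φ (Set.mem_toFinset.1 hφ) 1 h1reg]
    ring
  · rw [show (C : Set G) = Subtype.val '' (Set.univ : Set C) by simp,
      ← dsum_res (p := p) (H := C) Set.univ (a := fun s => (a.coeff s : ℂ)) (b := fun s => (a.coeff s : ℂ))
        (fun s h => by rw [has s h]; rfl)]
    have h1 := sum_secVal_mul_conj (p := p) (u := (1 : C)) (v := (1 : C)) ⟨0, by simp⟩ ⟨0, by simp⟩
      (a := fun s => (aC.coeff s : ℂ)) (b := fun s => (aC.coeff s : ℂ)) (fun s _ => Commute.one_left s)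
      (fun s _ => Commute.one_left s)
    rw [show {g : C | g * 1 * g⁻¹ = 1} = Set.univ from Set.eq_univ_of_forall fun g => by simp] at h1
    simp only [haC, coeff_res] at h1
    rw [← h1]
    have hsec : ∀ θ : IrrCharacter C,
        secVal p (1 : C) (fun s => ((a.coeff (s : G) : locRing M) : ℂ)) (θ : C → ℂ) =
          lin (θ : C → ℂ) aC := fun θ => by
      rw [hreg (CfsgLib.Char.IsIrrCharacter.isClassFunction θ.2)]
      simp [secVal, haC]
    simp only [hsec]
    rw [← Finset.sum_subset (Finset.subset_univ b.toFinset) fun θ _ hθ => by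
      rw [hz0 θ fun h => hθ (Set.mem_toFinset.2 h), zero_mul]]
    rw [← hdef, ← hzsum, Nat.cast_sum, Finset.mul_sum]
    refine Finset.sum_congr rfl fun θ hθ => ?_
    rw [hzL θ (Set.mem_toFinset.1 hθ), map_mul, map_natCast, map_intCast]
    push_cast
    ring

end CfsgLib.FreeInertial
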