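import Cfsg.Agent.Lib.BlockStar.Def
import Cfsg.Agent.Lib.BlockRank.RankOne

/-!
# Idempotents, regular sums and column orthogonality

An idempotent of the group ring over the local ring pairs with a class function only through the
`p`-regular values.  The products of two such pairings, summed over the irreducible characters,
are sums over the group.
-/

set_option autoImplicit false
set_option maxHeartbeats 800000
set_option synthInstance.maxHeartbeats 200000

open Cfsg CfsgLib.Blocks CfsgLib.BlockStar
open scoped Classical ComplexConjugate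

namespace CfsgLib.FreeInertial

universe u

variable {G : Type u} [Group G] [Fintype G] {p : ℕ} [Fact p.Prime] {M : Ideal AlgInt} [M.IsMaximal]

omit [Fact p.Prime] [M.IsMaximal] in
theorem isPPart_one {g : G} (hg : IsPRegular p g) : IsPPart p g 1 :=
  ⟨g, one_mul g, Commute.one_left g, ⟨0, by simp⟩, hg⟩

omit [M.IsMaximal] in
theorem isPPart_mul {u s : G} (hu : ∃ k : ℕ, orderOf u = p ^ k) (hs : IsPRegular p s)
    (hus : Commute u s) : IsPPart p (u * s) u :=
  ⟨s, rfl, hus, hu, hs⟩

theorem lin_eq_zero_of_regular (hM : IsPModular p M) {a : MonoidAlgebra (locRing M) G}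
    (ha : a * a = a) {θ : G → ℂ} (hθc : IsClassFunction G θ)
    (hθ : ∀ s, IsPRegular p s → θ s = 0) : lin θ a = 0 := by
  obtain ⟨η, hη, hη1, hηf⟩ := exists_root_red_one (M := M) hM.1 hM.2.2
  have he' : ∀ k, ∑ t, a.coeff t * a.coeff (t⁻¹ * k) = a.coeff k := by
    intro k
    rw [← coeff_mul_group, ha]
  have key : ∀ c, ¬ IsPRegular p c → ∑ x, (a.coeff (x⁻¹ * c * x) : ℂ) = 0 := by
    intro c hc
    have h := sum_conj_coeff_eq_zero (red M) (fun r hr => isUnit_of_red_ne_zero hr) hM.1 hη hη1 hηf
      (fun k => a.coeff k) he' 1 c⁻¹ (fun g => by simp) (fun z w hz hw hwz => by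
        exfalso
        have hz1 : z = 1 := IsPPart.unique hM.1 hz (isPPart_one (by simp [IsPRegular, hM.1.ne_one]))
        rw [hz1, inv_one] at hwz
        obtain ⟨d, hd⟩ := isConj_iff.1 hwz
        have hw1 : w = 1 := by
          calc w = d⁻¹ * (d * w * d⁻¹) * d := by group
            _ = 1 := by rw [hd]; group
        obtain ⟨y, hy, -, -, hyr⟩ := hw
        apply hc
        rw [IsPRegular, ← orderOf_inv, ← hy, hw1, one_mul]
        exact hyr)
    simpa using congrArg Subtype.val h
  have h1 : (Nat.card G : ℂ) * lin θ a = 0 := by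
    calc (Nat.card G : ℂ) * lin θ a
        = ∑ x : G, ∑ c, (a.coeff c : ℂ) * θ c := by
          rw [lin_apply, Finset.sum_const, Finset.card_univ, nsmul_eq_mul, Nat.card_eq_fintype_card]
      _ = ∑ x : G, ∑ c, (a.coeff (x⁻¹ * c * x) : ℂ) * θ c := by
          refine Finset.sum_congr rfl fun x _ => ?_
          refine Fintype.sum_equiv (MulAut.conj x).toEquiv _ _ fun c => ?_
          simp only [MulEquiv.toEquiv_eq_coe, EquivLike.coe_coe, MulAut.conj_apply]
          rw [hθc c x]
          congr 2
          group
      _ = 0 := by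
          rw [Finset.sum_comm]
          refine Finset.sum_eq_zero fun c _ => ?_
          rw [← Finset.sum_mul]
          by_cases hc : IsPRegular p c
          · rw [hθ c hc, mul_zero]
          · rw [key c hc, zero_mul]
  exact (mul_eq_zero.1 h1).resolve_left (Nat.cast_ne_zero.2 Nat.card_pos.ne')

/-- **An idempotent sees only the regular values.** -/
theorem lin_eq_sum_regular (hM : IsPModular p M) {a : MonoidAlgebra (locRing M) G}
    (ha : a * a = a) {θ : G → ℂ} (hθ : IsClassFunction G θ) :
    lin θ a = ∑ s ∈ Finset.univ.filter (IsPRegular p), (a.coeff s : ℂ) * θ s := by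
  have hcl : IsClassFunction G (fun g => θ g - pRegularPart p θ g) := fun g h => by
    show θ (h * g * h⁻¹) - pRegularPart p θ (h * g * h⁻¹) = _
    rw [hθ]
    simp only [BlockRank.pRegularPart_apply, BlockRank.isPRegular_conj g h, hθ g h]
  have h0 := lin_eq_zero_of_regular hM ha hcl fun s hs => by
    simp [BlockRank.pRegularPart_apply, hs]
  rw [lin_apply] at h0 ⊢
  simp only [mul_sub, Finset.sum_sub_distrib, sub_eq_zero] at h0
  rw [h0, Finset.sum_filter]
  refine Finset.sum_congr rfl fun s _ => ?_
  rw [BlockRank.pRegularPart_apply]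
  split_ifs <;> simp

/-- The pairing of `χ` with coefficients on the `p`-section of `u`. -/
noncomputable def secVal (p : ℕ) (u : G) (a χ : G → ℂ) : ℂ :=
  ∑ s ∈ Finset.univ.filter (IsPRegular p), a s * χ (u * s)

/-- The sum over `g ∈ S` of the inner products of coefficients and their conjugates. -/
noncomputable def dsum (p : ℕ) (S : Set G) (a b : G → ℂ) : ℂ :=
  ∑ g ∈ Finset.univ.filter (· ∈ S), ∑ s ∈ Finset.univ.filter (IsPRegular p),
    a s * conj (b (g * s * g⁻¹))

omit [M.IsMaximal] in
/-- **Column orthogonality on sections.** -/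
theorem sum_secVal_mul_conj {u v : G} (hu : ∃ k : ℕ, orderOf u = p ^ k)
    (hv : ∃ k : ℕ, orderOf v = p ^ k) {a b : G → ℂ} (ha : ∀ s, a s ≠ 0 → Commute u s)
    (hb : ∀ s, b s ≠ 0 → Commute v s) :
    ∑ χ : IrrCharacter G, secVal p u a χ * conj (secVal p v b χ) =
      dsum p {g | g * u * g⁻¹ = v} a b := by
  calc ∑ χ : IrrCharacter G, secVal p u a χ * conj (secVal p v b χ)
      = ∑ s ∈ Finset.univ.filter (IsPRegular p), ∑ t ∈ Finset.univ.filter (IsPRegular p),
          a s * conj (b t) * ∑ χ : IrrCharacter G, (χ : G → ℂ) (u * s) * conj ((χ : G → ℂ) (v * t)) := by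
        simp only [secVal, map_sum, map_mul, Finset.sum_mul_sum]
        rw [Finset.sum_comm]
        refine Finset.sum_congr rfl fun s _ => ?_
        rw [Finset.sum_comm]
        refine Finset.sum_congr rfl fun t _ => ?_
        rw [Finset.mul_sum]
        exact Finset.sum_congr rfl fun χ _ => by ring
    _ = ∑ s ∈ Finset.univ.filter (IsPRegular p), ∑ t ∈ Finset.univ.filter (IsPRegular p),
          ∑ g : G, if g * u * g⁻¹ = v ∧ g * s * g⁻¹ = t then a s * conj (b t) else 0 := by
        refine Finset.sum_congr rfl fun s hs => Finset.sum_congr rfl fun t ht => ?_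
        by_cases hst : a s * conj (b t) = 0
        · simp [hst]
        have hus := ha s (left_ne_zero_of_mul hst)
        have hvt := hb t fun h => right_ne_zero_of_mul hst (by rw [h, map_zero])
        have hs' := (Finset.mem_filter.1 hs).2
        have ht' := (Finset.mem_filter.1 ht).2
        rw [CfsgLib.Char.sum_mul_conj]
        have hiff : ∀ g : G, (g * u * g⁻¹ = v ∧ g * s * g⁻¹ = t) ↔ g * (u * s) * g⁻¹ = v * t := by
          intro g
          refine ⟨fun ⟨h1, h2⟩ => by rw [← h1, ← h2]; group, fun h => ?_⟩
          have h1 : g * u * g⁻¹ = v :=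
            IsPPart.unique Fact.out (h ▸ IsPPart.conj (isPPart_mul hu hs' hus) g)
              (isPPart_mul hv ht' hvt)
          refine ⟨h1, ?_⟩
          rw [← h1] at h
          calc g * s * g⁻¹ = (g * u * g⁻¹)⁻¹ * (g * (u * s) * g⁻¹) := by group
            _ = t := by rw [h]; group
        rw [Finset.sum_congr rfl fun g _ => if_congr (hiff g) rfl rfl, ← Finset.sum_filter,
          Finset.sum_const, nsmul_eq_mul, mul_comm]
        congr 1
        by_cases hc : IsConj (u * s) (v * t)
        · rw [if_pos hc]
          obtain ⟨c, hc⟩ := isConj_iff.1 hc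
          rw [Nat.card_eq_fintype_card, Nat.cast_inj, Fintype.card_eq_nat_card,
            Nat.card_eq_fintype_card, ← Finset.card_univ]
          refine Finset.card_bij (fun z _ => c * (z : G)) (fun z _ => ?_)
            (fun _ _ _ _ e => Subtype.ext (mul_left_cancel e)) fun g hg => ?_
          · refine Finset.mem_filter.2 ⟨Finset.mem_univ _, ?_⟩
            have hz := Subgroup.mem_centralizer_singleton_iff.1 z.2
            calc c * (z : G) * (u * s) * (c * (z : G))⁻¹
                = c * ((z : G) * (u * s)) * (z : G)⁻¹ * c⁻¹ := by group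
              _ = v * t := by rw [hz, ← hc]; group
          · have hg' := (Finset.mem_filter.1 hg).2
            refine ⟨⟨c⁻¹ * g, ?_⟩, Finset.mem_univ _, mul_inv_cancel_left c g⟩
            rw [Subgroup.mem_centralizer_singleton_iff]
            calc c⁻¹ * g * (u * s) = c⁻¹ * (g * (u * s) * g⁻¹) * g := by group
              _ = u * s * (c⁻¹ * g) := by rw [hg', ← hc]; group
        · rw [if_neg hc, Finset.filter_false_of_mem fun g _ h => hc (isConj_iff.2 ⟨g, h⟩)]
          simp
    _ = dsum p {g | g * u * g⁻¹ = v} a b := by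
        rw [dsum, Finset.sum_filter (p := fun g => g ∈ {g : G | g * u * g⁻¹ = v})]
        refine Eq.trans (Finset.sum_congr rfl fun s _ => Finset.sum_comm)
          (Finset.sum_comm.trans (Finset.sum_congr rfl fun g _ => ?_))
        by_cases hg : g * u * g⁻¹ = v
        · rw [if_pos (show g ∈ {g : G | g * u * g⁻¹ = v} from hg)]
          refine Finset.sum_congr rfl fun s hs => ?_
          rw [Finset.sum_eq_single (g * s * g⁻¹)]
          · rw [if_pos ⟨hg, rfl⟩]
          · intro t _ hne
            rw [if_neg fun h => hne h.2.symm]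
          · intro h
            exact absurd (Finset.mem_filter.2 ⟨Finset.mem_univ _,
              (BlockRank.isPRegular_conj s g).2 (Finset.mem_filter.1 hs).2⟩) h
        · rw [if_neg (show g ∉ {g : G | g * u * g⁻¹ = v} from hg)]
          exact Finset.sum_eq_zero fun s _ => Finset.sum_eq_zero fun t _ => if_neg fun h => hg h.1

end CfsgLib.FreeInertial
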