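import Cfsg.Agent.Lib.FreeInertial.Pointed
import Cfsg.Agent.Lib.FreeInertial.SectionValue
import Cfsg.Agent.Lib.Blocks.Brandt.OneSimple

/-!
# Lifts supported on a subgroup and the multiplicity at the top

An idempotent of the modular group algebra supported on a subgroup lifts to one supported there.
The Brauer image at `P` of a primitive idempotent of the fixed algebra of `P` is primitive, so
some character of the pair has multiplicity prime to `p` in its lift.
-/

set_option autoImplicit false
set_option maxHeartbeats 1000000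
set_option synthInstance.maxHeartbeats 400000

open Cfsg CfsgLib.Blocks CfsgLib.Blocks.Pairs CfsgLib.BlockStar Polynomial
open scoped Classical

namespace CfsgLib.FreeInertial

universe u

variable {G : Type u} [Group G] [Finite G]

/-- The elements supported on a subgroup. -/
noncomputable def suppAlg (R : Type*) [CommRing R] (H : Subgroup G) :
    Subalgebra R (MonoidAlgebra R G) where
  carrier := {a | ∀ s, s ∉ H → a.coeff s = 0}
  mul_mem' := fun {a b} ha hb c hc => by
    haveI := Fintype.ofFinite G
    rw [coeff_mul_group]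
    refine Finset.sum_eq_zero fun x _ => ?_
    by_cases hx : x ∈ H
    · rw [hb (x⁻¹ * c) fun h => hc (by simpa using H.mul_mem hx h), mul_zero]
    · rw [ha x hx, zero_mul]
  add_mem' := fun ha hb s hs => by simp [ha s hs, hb s hs]
  algebraMap_mem' := fun r s hs => by
    have : s ≠ 1 := fun h => hs (h ▸ H.one_mem)
    simp [MonoidAlgebra.coe_algebraMap, Finsupp.single_eq_of_ne this]

variable {M : Ideal AlgInt} [M.IsMaximal]

/-- Idempotents lift with their invariance and their support. -/
theorem exists_supp_lift {K H : Subgroup G} (hK : K ≤ Subgroup.normalizer (H : Set G))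
    {y : MonoidAlgebra (ResField M) G} (hy : y ∈ fixAlg (ResField M) K) (hi : y * y = y)
    (hs : SuppIn H y) :
    ∃ a ∈ fixAlg (locRing M) K, a * a = a ∧ redA M a = y ∧ ∀ s, s ∉ H → a.coeff s = 0 := by
  obtain ⟨a₀, ha₀, har₀⟩ := exists_lift hy
  set a : MonoidAlgebra (locRing M) G := ofFun fun g => if g ∈ H then a₀.coeff g else 0 with ha'
  have ha : a ∈ fixAlg (locRing M) K := by
    rw [mem_fixAlg] at ha₀ ⊢
    intro u hu x
    simp only [ha', coeff_ofFun]
    exact if_congr ((Subgroup.mem_normalizer_iff.1 (hK hu) x).symm) (ha₀ u hu x) rfl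
  have has : a ∈ suppAlg (locRing M) H := fun s h => by simp [ha', h]
  have har : redA M a = y := by
    ext g
    by_cases hg : g ∈ H
    · rw [← har₀]; simp [ha', hg]
    · rw [hs g hg]; simp [ha', hg]
  obtain ⟨Q, hQ0, hQ1, hQ⟩ := CfsgLib.RegLift.exists_idempotent_poly (M := M)
    (a := a) (IsIntegral.of_finite _ a)
  refine ⟨aeval a Q, Algebra.adjoin_le (Set.singleton_subset_iff.2 ha)
    (aeval_mem_adjoin_singleton _ a), hQ, ?_, ?_⟩
  · rw [redA_aeval, har, eval₂_of_idem _ Q hQ0 hQ1 hi]
  · exact Algebra.adjoin_le (S := suppAlg (locRing M) H) (Set.singleton_subset_iff.2 has)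
      (aeval_mem_adjoin_singleton _ a)

variable {p : ℕ} [Fact p.Prime] [CharP (ResField M) p]

noncomputable local instance : Field (ResField M) := Ideal.Quotient.field M

/-- The Brauer image of a primitive idempotent is primitive. -/
theorem prim_down_trunc {P : Subgroup G} {C : Subgroup G}
    (hC : C = Subgroup.centralizer (P : Set G)) (hP : IsPGroup p P)
    {y : fixAlg (ResField M) P} (hy : Prim y)
    (hne : trunc P (y : MonoidAlgebra (ResField M) G) ≠ 0) :
    Prim (down C (trunc P (y : MonoidAlgebra (ResField M) G))) := by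
  set t := trunc P (y : MonoidAlgebra (ResField M) G) with ht
  have hts : SuppIn C t := hC ▸ trunc_suppIn P _
  have ht2 : t * t = t := by
    rw [ht, ← trunc_mul hP (mem_fixAlg.1 y.2) (mem_fixAlg.1 y.2)]
    exact congrArg (trunc P) (congrArg Subtype.val hy.1)
  refine ⟨up_injective C (by rw [up_mul, up_down hts, ht2]),
    fun h => hne (by rw [← up_down hts, h, up_zero]), fun e he h1 h2 => ?_⟩
  set E₀ := up C e with hE
  have hEs : SuppIn (Subgroup.centralizer (P : Set G)) E₀ := hC ▸ up_suppIn C e
  have hE2 : E₀ * E₀ = E₀ := by rw [hE, ← up_mul, he]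
  have htE : t * E₀ = E₀ := by rw [hE, ← up_down hts, ← up_mul, h1]
  have hEt : E₀ * t = E₀ := by rw [hE, ← up_down hts, ← up_mul, h2]
  let τ : fixAlg (ResField M) P →+* MonoidAlgebra (ResField M) G :=
    { toFun := fun a => trunc P (a : MonoidAlgebra (ResField M) G)
      map_one' := by simp
      map_mul' := fun a b => trunc_mul hP (mem_fixAlg.1 a.2) (mem_fixAlg.1 b.2)
      map_zero' := by simp
      map_add' := fun a b => by simp [trunc_add] }
  set c : fixAlg (ResField M) P :=
    y * ⟨E₀, mem_fixAlg.2 (suppIn_centralizer_conjFixed hEs)⟩ * y with hc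
  have hτc : τ c = E₀ := by
    rw [hc, map_mul, map_mul, show τ ⟨E₀, _⟩ = E₀ from trunc_eq_self hEs]
    show t * E₀ * t = E₀
    rw [htE, hEt]
  have hc1 : y * c = c := by rw [hc, ← mul_assoc, ← mul_assoc, hy.1]
  have hc2 : c * y = c := by rw [hc, mul_assoc, hy.1]
  rcases hy.nilpotent_or_unit (ResField M) hc1 hc2 with hn | ⟨d, -, -, hcd, -⟩
  · left
    refine up_injective C ?_
    rw [up_zero]
    exact BlockStar.eq_zero_of_idem_nilpotent hE2 (Eq.mp (congrArg IsNilpotent hτc) (hn.map τ))
  · right
    refine up_injective C ?_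
    rw [up_down hts]
    have h3 : E₀ * τ d = t := by rw [← hτc, ← map_mul, hcd]; rfl
    calc E₀ = E₀ * t := hEt.symm
      _ = E₀ * (E₀ * τ d) := by rw [h3]
      _ = t := by rw [← mul_assoc, hE2, h3]

/-- A primitive idempotent has trace one in a simple component. -/
theorem exists_traceLike_one {ε j : MonoidAlgebra (ResField M) G} (hε : ∀ a, ε * a = a * ε)
    (hεi : ε * ε = ε) (hj : Prim j) (hεj : ε * j = j) :
    ∃ (F : MonoidAlgebra (ResField M) G →ₗ[ResField M] ResField M) (n : ℕ)
      (ρ : MonoidAlgebra (ResField M) G →ₐ[ResField M] Matrix (Fin n) (Fin n) (ResField M)),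
      Brandt.TraceLike ε F ∧ F j = 1 ∧ Function.Surjective ρ ∧
        ∀ a, F a = Matrix.trace (ρ a) := by
  have := finiteDimensional_monoidAlgebra (F := ResField M) (G := G)
  have : IsAlgClosed (ResField M) := Brandt.isAlgClosed_resField
  obtain ⟨n, d, hd, π, hπ, hπn⟩ := exists_pi (A := MonoidAlgebra (ResField M) G) (ResField M)
  obtain ⟨l, hl⟩ : ∃ l, π j l ≠ 0 := by
    by_contra hc
    push Not at hc
    exact hj.2.1 (BlockStar.eq_zero_of_idem_nilpotent hj.1 (hπn j (funext hc)))
  let ρ : MonoidAlgebra (ResField M) G →ₐ[ResField M]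
      Matrix (Fin (d l)) (Fin (d l)) (ResField M) := (Pi.evalAlgHom _ _ l).comp π
  have hρ : Function.Surjective ρ := fun X => by
    obtain ⟨a, ha⟩ := hπ (Pi.single l X)
    exact ⟨a, show π a l = X by rw [ha, Pi.single_eq_same]⟩
  have hρl : ρ j ≠ 0 := hl
  have hjj : ρ j * ρ j = ρ j := by rw [← map_mul, hj.1]
  -- the component of `ε` is one
  have hε1 : ρ ε = 1 := by
    obtain ⟨t, ht⟩ := Matrix.mem_range_scalar_of_commute_single (M := ρ ε) fun a b _ => by
      obtain ⟨x, hx⟩ := hρ (Matrix.single a b 1)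
      rw [← hx]
      show ρ x * ρ ε = ρ ε * ρ x
      rw [← map_mul, ← map_mul, hε]
    have h1 : ρ ε * ρ j = ρ j := by rw [← map_mul, hεj]
    have h2 : ρ ε * ρ ε = ρ ε := by rw [← map_mul, hεi]
    rw [← ht] at h1 h2 ⊢
    have hne : t ≠ 0 := fun h => hρl (by rw [← h1, h, map_zero, zero_mul])
    rcases isEmpty_or_nonempty (Fin (d l)) with h | h
    · exact Subsingleton.elim _ _
    rw [← map_mul, Matrix.scalar_inj] at h2
    rw [show t = 1 from mul_left_cancel₀ hne (h2.trans (mul_one t).symm), map_one]
  -- the image of `j` has rank one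
  obtain ⟨a, b, hab⟩ : ∃ a b, ρ j a b ≠ 0 := by
    by_contra hc
    push Not at hc
    exact hρl (Matrix.ext hc)
  set v : Fin (d l) → ResField M := fun s => ρ j s b with hv
  set w : Fin (d l) → ResField M := fun s => ρ j a s / ρ j a b with hw
  set E := Matrix.vecMulVec v w with hE
  have hvj : (ρ j).mulVec v = v := by
    funext s
    simpa [Matrix.mulVec, dotProduct, hv, Matrix.mul_apply] using congrFun (congrFun hjj s) b
  have hwv : dotProduct w v = 1 := by
    have := congrFun (congrFun hjj a) b
    simp only [Matrix.mul_apply] at this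
    simp only [dotProduct, hw, hv, div_mul_eq_mul_div, ← Finset.sum_div, this, div_self hab]
  have hwj : Matrix.vecMul w (ρ j) = w := by
    funext s
    have := congrFun (congrFun hjj a) s
    simp only [Matrix.mul_apply] at this
    simp only [Matrix.vecMul, dotProduct, hw, div_mul_eq_mul_div, ← Finset.sum_div, this]
  have hEE : E * E = E := by
    rw [hE, Matrix.vecMulVec_mul_vecMulVec, hwv, one_smul]
  have hE0 : E ≠ 0 := fun h => by
    have h1 : v * 1 = v := mul_one v
    have h2 : Matrix.mulVec E v = v := by rw [hE, Matrix.vecMulVec_mulVec, hwv]; simp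
    rw [h, Matrix.zero_mulVec] at h2
    exact hab (congrFun h2.symm a)
  obtain ⟨x, hx⟩ := hρ E
  set c := j * x * j with hc
  have hρc : ρ c = E := by
    rw [hc, map_mul, map_mul, hx, hE, Matrix.mul_vecMulVec, hvj, Matrix.vecMulVec_mul, hwj]
  rcases hj.nilpotent_or_unit (ResField M) (c := c) (by rw [hc, ← mul_assoc, ← mul_assoc, hj.1])
    (by rw [hc, mul_assoc, hj.1]) with hn | ⟨e, -, -, hce, -⟩
  · exact absurd (BlockStar.eq_zero_of_idem_nilpotent hEE (hρc ▸ hn.map ρ)) hE0
  have hje : ρ j = Matrix.vecMulVec v (Matrix.vecMul w (ρ e)) := by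
    rw [← hce, map_mul, hρc, hE, Matrix.vecMulVec_mul]
  set u := Matrix.vecMul w (ρ e)
  have hu : dotProduct u v = 1 := by
    have h1 := congrFun hvj a
    rw [hje, Matrix.vecMulVec_mulVec] at h1
    simp only [Pi.smul_apply, MulOpposite.smul_eq_mul_unop, MulOpposite.unop_op] at h1
    exact mul_left_cancel₀ (show v a ≠ 0 from hab) (h1.trans (mul_one _).symm)
  refine ⟨(Matrix.traceLinearMap _ _ _).comp ρ.toLinearMap, _, ρ, ⟨fun s t => ?_, fun s => ?_,
    fun s hs => ?_⟩, ?_, hρ, fun _ => rfl⟩
  · show Matrix.trace (ρ (s * t)) = Matrix.trace (ρ (t * s))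
    rw [map_mul, map_mul, Matrix.trace_mul_comm]
  · show Matrix.trace (ρ (ε * s)) = Matrix.trace (ρ s)
    rw [map_mul, hε1, one_mul]
  · show Matrix.trace (ρ s) = 0
    exact (Matrix.isNilpotent_trace_of_isNilpotent (hs.map ρ)).eq_zero
  · show Matrix.trace (ρ j) = 1
    rw [hje, Matrix.trace_vecMulVec, dotProduct_comm]
    exact hu

/-- **Some character has multiplicity prime to `p` at the top.** -/
theorem exists_top_unit (hM : IsPModular p M) {B e : MonoidAlgebra (ResField M) G} {P C : Subgroup G}
    (hC : C = Subgroup.centralizer (P : Set G)) {y : fixAlg (ResField M) P} (hy : Prim y)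
    (h : Pointed p B P e (y : MonoidAlgebra (ResField M) G)) {a : MonoidAlgebra (locRing M) G}
    (har : redA M a = trunc P (y : MonoidAlgebra (ResField M) G))
    {c : Set (IrrCharacter C)} (hc : IsPBlock M c)
    (hce : trunc P (y : MonoidAlgebra (ResField M) G) * eIn hc =
      trunc P (y : MonoidAlgebra (ResField M) G))
    (hai : res C a * res C a = res C a) :
    ∃ θ ∈ c, ∃ N : ℕ, lin (θ : C → ℂ) (res C a) = (N : ℂ) ∧ ¬ p ∣ N := by
  haveI := Fintype.ofFinite G
  haveI := Fintype.ofFinite C
  haveI := Fintype.ofFinite c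
  set t := trunc P (y : MonoidAlgebra (ResField M) G) with ht
  have hj := prim_down_trunc hC h.pair.pair.pgroup hy (h.trunc_ne le_rfl)
  have hts : SuppIn C t := hC ▸ trunc_suppIn P _
  have hεj : ebar hc * down C t = down C t := by
    refine up_injective C ?_
    rw [up_mul, up_down hts]
    show eIn hc * t = t
    rw [← mul_comm_of_suppIn hts (isBlockIdem_eIn hc).mem.fixed, hce]
  obtain ⟨F, -, -, hF, hF1, -, -⟩ := exists_traceLike_one (G := C) (ε := ebar hc)
    (fun x => (Subalgebra.mem_center_iff.1 (blockIdem hc).2 x).symm)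
    (congrArg Subtype.val (isIdempotentElem_blockIdem hc).eq) hj hεj
  obtain ⟨al, hal⟩ := Brandt.exists_lift hM hc hF
  have hex : ∀ θ : IrrCharacter C, ∃ N : ℕ, lin (θ : C → ℂ) (res C a) = (N : ℂ) := by
    intro θ
    have h := CfsgLib.Char.IsCharacter.exists_degree (isCharacter_lin θ
      (K := (⊥ : Subgroup C)) (a := res C a) (mem_fixAlg.2 fun u hu s => by
        rw [Subgroup.mem_bot.1 hu]; simp) hai)
    simpa [← MonoidAlgebra.one_def] using h
  choose N hN using hex
  by_contra hcon
  push Not at hcon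
  have hd : down C t = redA M (res C a) := by rw [redA_res, har]
  have hexp : F (redA M (res C a)) =
      red M (∑ θ ∈ (Set.toFinite c).toFinset, al θ * (N θ : locRing M)) := by
    have e1 : F (redA M (res C a)) =
        ∑ g, red M ((res C a).coeff g) * F (MonoidAlgebra.single g 1) := by
      conv_lhs => rw [← MonoidAlgebra.sum_coeff_single (redA M (res C a))]
      rw [Finsupp.sum_fintype _ _ (fun g => by simp), map_sum]
      refine Finset.sum_congr rfl fun g _ => ?_
      rw [← smul_eq_mul, ← map_smul, MonoidAlgebra.smul_single', mul_one, coeff_redA]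
    rw [e1]
    simp only [hal]
    simp only [← map_mul, ← map_sum, Finset.mul_sum]
    rw [Finset.sum_comm]
    congr 1
    refine Finset.sum_congr rfl fun θ _ => Subtype.ext ?_
    push_cast
    rw [← hN θ, lin_apply, Finset.mul_sum]
    exact Finset.sum_congr rfl fun g _ => by ring
  rw [hd, hexp, map_sum, Finset.sum_eq_zero fun θ hθ => ?_] at hF1
  · exact zero_ne_one hF1
  · rw [map_mul, map_natCast, (CharP.cast_eq_zero_iff (ResField M) p _).2
      (hcon θ ((Set.toFinite c).mem_toFinset.1 hθ) (N θ) (hN θ)), mul_zero]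

end CfsgLib.FreeInertial
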