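import Cfsg.Agent.Lib.FreeInertial.Dual
import Cfsg.Agent.Lib.Char.PowerMap

/-!
# Integer valued generalized characters of abelian two-groups modulo four

Such a character with odd values agrees modulo four with a multiple of a sign character.
-/

set_option autoImplicit false
set_option maxHeartbeats 1000000

open Cfsg Polynomial
open scoped ComplexConjugate

namespace CfsgLib.FreeInertial

universe u

variable {A : Type u} [CommGroup A] [Fintype A]

/-- The value of `ζ` if it is a sign, and zero otherwise. -/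
noncomputable def signPart (ζ : ℂ) : ℤ := if ζ = 1 then 1 else if ζ = -1 then -1 else 0

theorem signPart_one : signPart 1 = 1 := by simp [signPart]

theorem signPart_cast {ζ : ℂ} (h : ζ ^ 2 = 1) : (signPart ζ : ℂ) = ζ := by
  rcases sq_eq_one_iff.1 h with rfl | rfl <;> norm_num [signPart]

theorem signPart_of_ne {ζ : ℂ} (h : ζ ^ 2 ≠ 1) : signPart ζ = 0 := by
  rw [signPart, if_neg, if_neg] <;> rintro rfl <;> norm_num at h

theorem signPart_pow_odd {ζ : ℂ} {a k : ℕ} (hζ : ζ ^ (2 ^ a) = 1) (hk : Odd k) :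
    signPart (ζ ^ k) = signPart ζ := by
  obtain ⟨t, rfl⟩ := hk
  by_cases h : ζ ^ 2 = 1
  · rw [pow_succ, pow_mul, h, one_pow, one_mul]
  · rw [signPart_of_ne h, signPart_of_ne]
    intro h'
    apply h
    have h1 : orderOf (ζ ^ 2) ∣ 2 * t + 1 :=
      orderOf_dvd_of_pow_eq_one (by rw [← pow_mul, mul_comm, pow_mul]; exact h')
    have h2 : orderOf (ζ ^ 2) ∣ 2 ^ a :=
      orderOf_dvd_of_pow_eq_one (by rw [← pow_mul, mul_comm, pow_mul, hζ, one_pow])
    refine orderOf_eq_one_iff.1 (Nat.dvd_one.1 ?_)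
    have hc : Nat.Coprime (2 * t + 1) (2 ^ a) :=
      Nat.Coprime.pow_right _ (Nat.coprime_two_right.2 ⟨t, rfl⟩)
    exact hc ▸ Nat.dvd_gcd h1 h2

theorem sum_odd_pow {ζ : ℂ} {a : ℕ} (hζ : ζ ^ (2 ^ (a + 1)) = 1) :
    ∑ t ∈ Finset.range (2 ^ a), ζ ^ (2 * t + 1) = (2 : ℂ) ^ a * signPart ζ := by
  have h2 : (ζ ^ 2) ^ (2 ^ a) = 1 := by rw [← pow_mul, ← pow_succ']; exact hζ
  simp only [pow_add, pow_one, pow_mul, ← Finset.sum_mul]
  by_cases h : ζ ^ 2 = 1
  · simp [h, signPart_cast h]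
  · rw [geom_sum_eq h, h2, signPart_of_ne h]
    simp

theorem odd_sum_four {a b : ℂ} (ha : a ^ 4 = 1) (hb : b ^ 4 = 1) :
    (2 : ℤ) ∣ 1 + signPart a + signPart b + signPart (a * b) := by
  have hsq : ∀ z : ℂ, z ^ 4 = 1 → z ^ 2 = 1 ∨ z ^ 2 = -1 := fun z hz =>
    sq_eq_one_iff.1 (by rw [← pow_mul]; exact hz)
  have hu : ∀ z : ℂ, z ^ 2 = 1 → signPart z = 1 ∨ signPart z = -1 := fun z hz => by
    rcases sq_eq_one_iff.1 hz with rfl | rfl <;> norm_num [signPart]
  have hz : ∀ z : ℂ, z ^ 2 = -1 → signPart z = 0 := fun z hz =>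
    signPart_of_ne (by rw [hz]; norm_num)
  rcases hsq a ha with h1 | h1 <;> rcases hsq b hb with h2 | h2
  · rcases hu a h1 with e | e <;> rcases hu b h2 with e' | e' <;>
      rcases hu (a * b) (by rw [mul_pow, h1, h2, one_mul]) with e'' | e'' <;> omega
  · rcases hu a h1 with e | e <;> have e' := hz b h2 <;>
      have e'' := hz (a * b) (by rw [mul_pow, h1, h2, one_mul]) <;> omega
  · have e := hz a h1
    rcases hu b h2 with e' | e' <;>
      have e'' := hz (a * b) (by rw [mul_pow, h1, h2, mul_one]) <;> omega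
  · have e := hz a h1
    have e' := hz b h2
    rcases hu (a * b) (by rw [mul_pow, h1, h2]; norm_num) with e'' | e'' <;> omega

theorem four_dvd_of_sq {a b : ℂ} (ha : a ^ 2 = 1) (hb : b ^ 2 = 1) :
    (4 : ℤ) ∣ 1 + signPart a + signPart b + signPart (a * b) := by
  rcases sq_eq_one_iff.1 ha with rfl | rfl <;> rcases sq_eq_one_iff.1 hb with rfl | rfl <;>
    norm_num [signPart]

/-- **The values modulo four.** -/
theorem four_dvd_sum (hA : IsPGroup 2 A) (V : A → ℤ)
    (hV : IsGeneralizedCharacter A fun g => (V g : ℂ)) (x y : A) :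
    (4 : ℤ) ∣ V 1 + V x + V y + V (x * y) := by
  classical
  have := Blk83.FreeOrbit.finite_dual (A := A)
  have := Fintype.ofFinite (A →* ℂˣ)
  choose z hz using exists_int_fsum hV
  obtain ⟨a, ha⟩ := IsPGroup.iff_card.1 hA
  have hA0 : (Nat.card A : ℂ) ≠ 0 := Nat.cast_ne_zero.2 Nat.card_pos.ne'
  have hexp : ∀ g, (V g : ℂ) = ∑ lam : A →* ℂˣ, (z lam : ℂ) * (lam g : ℂ) := fun g => by
    refine mul_left_cancel₀ hA0 ?_
    rw [card_mul_eq_sum (fun g => (V g : ℂ)) g, Finset.mul_sum]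
    exact Finset.sum_congr rfl fun lam _ => by rw [hz]; ring
  have hpow2 : ∀ (lam : A →* ℂˣ) (g : A), ((lam g : ℂ)) ^ (2 ^ (a + 1)) = 1 := fun lam g => by
    rw [pow_succ, pow_mul, ← ha, ← Units.val_pow_eq_pow_val, ← map_pow, pow_card_eq_one', map_one,
      Units.val_one, one_pow]
  -- invariance under odd powers
  have hodd : ∀ (g : A) (k : ℕ), Odd k → V (g ^ k) = V g := by
    intro g k hk
    have hg : 0 < orderOf g := orderOf_pos g
    set ζ := Complex.exp (2 * Real.pi * Complex.I / (orderOf g : ℕ))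
    have hζ : IsPrimitiveRoot ζ (orderOf g) := Complex.isPrimitiveRoot_exp _ hg.ne'
    have : NeZero (orderOf g) := ⟨hg.ne'⟩
    have hi : ∀ lam : A →* ℂˣ, ∃ i, ζ ^ i = (lam g : ℂ) := fun lam => by
      obtain ⟨i, -, hi⟩ := hζ.eq_pow_of_pow_eq_one (ξ := (lam g : ℂ))
        (by rw [← Units.val_pow_eq_pow_val, ← map_pow, pow_orderOf_eq_one, map_one, Units.val_one])
      exact ⟨i, hi⟩
    choose i hi using hi
    let Q : ℤ[X] := ∑ lam : A →* ℂˣ, C (z lam) * X ^ i lam
    have hQ : ∀ w : ℂ, aeval w Q = ∑ lam : A →* ℂˣ, (z lam : ℂ) * w ^ i lam := fun w => by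
      simp [Q]
    have h1 : aeval ζ Q = ((V g : ℚ) : ℂ) := by
      rw [hQ, Rat.cast_intCast, hexp]
      exact Finset.sum_congr rfl fun lam _ => by rw [hi]
    obtain ⟨j, hj⟩ := (Nat.dvd_prime_pow Nat.prime_two).1 (ha ▸ orderOf_dvd_natCard g)
    have hco : Nat.Coprime k (orderOf g) := by
      rw [hj.2]
      exact Nat.Coprime.pow_right _ (Nat.coprime_two_right.2 hk)
    have h2 := CfsgLib.CharPower.aeval_eq_of_rat hg hζ (hζ.pow_of_coprime k hco) Q (V g) h1
    rw [hQ, Rat.cast_intCast] at h2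
    have h3 : (V (g ^ k) : ℂ) = (V g : ℂ) := by
      rw [hexp, ← h2]
      exact Finset.sum_congr rfl fun lam _ => by
        rw [map_pow, Units.val_pow_eq_pow_val, ← hi]; ring
    exact_mod_cast h3
  -- the averaged expansion
  have hval : ∀ g, V g = ∑ lam : A →* ℂˣ, z lam * signPart (lam g : ℂ) := by
    intro g
    have h1 : ((2 : ℂ) ^ a) * (V g : ℂ) =
        ((2 : ℂ) ^ a) * ((∑ lam : A →* ℂˣ, z lam * signPart (lam g : ℂ) : ℤ) : ℂ) := by
      calc ((2 : ℂ) ^ a) * (V g : ℂ)
          = ∑ t ∈ Finset.range (2 ^ a), (V (g ^ (2 * t + 1)) : ℂ) := by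
            rw [Finset.sum_congr rfl fun t _ => by rw [hodd g _ ⟨t, rfl⟩]]
            simp
        _ = _ := by
            simp only [hexp (g ^ _), map_pow, Units.val_pow_eq_pow_val]
            rw [Finset.sum_comm]
            push_cast
            rw [Finset.mul_sum]
            refine Finset.sum_congr rfl fun lam _ => ?_
            rw [← Finset.mul_sum, sum_odd_pow (hpow2 lam g)]
            ring
    exact_mod_cast mul_left_cancel₀ (pow_ne_zero _ two_ne_zero) h1
  have hzinv : ∀ (lam : A →* ℂˣ) (k : ℕ), Odd k → z (lam ^ k) = z lam := by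
    intro lam k hk
    have hco : (Nat.card A).Coprime k := by
      rw [ha]; exact (Nat.coprime_two_left.2 hk).pow_left _
    have h1 : fsum (fun g => (V g : ℂ)) (lam ^ k) = fsum (fun g => (V g : ℂ)) lam := by
      refine Fintype.sum_equiv (powCoprime hco) _ _ fun g => ?_
      simp only [powCoprime_apply, hodd g k hk, MonoidHom.pow_apply, map_pow]
    rw [hz, hz] at h1
    exact_mod_cast mul_left_cancel₀ hA0 h1
  let h : (A →* ℂˣ) → ℤ := fun lam =>
    z lam * (1 + signPart (lam x : ℂ) + signPart (lam y : ℂ) + signPart (lam (x * y) : ℂ))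
  have hsum : V 1 + V x + V y + V (x * y) = ∑ lam, h lam := by
    simp only [hval, h, ← Finset.sum_add_distrib]
    refine Finset.sum_congr rfl fun lam _ => ?_
    rw [map_one, Units.val_one, signPart_one]
    ring
  rw [hsum, ← Finset.sum_fiberwise Finset.univ (fun lam => Subgroup.zpowers lam) h]
  refine Finset.dvd_sum fun Z _ => ?_
  rcases Finset.eq_empty_or_nonempty
    (Finset.univ.filter fun lam => Subgroup.zpowers lam = Z) with he | ⟨l₀, hl₀⟩
  · simp [he]
  obtain rfl := (Finset.mem_filter.1 hl₀).2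
  have hcd : Nat.card (A →* ℂˣ) = 2 ^ a := by
    rw [CommGroup.card_monoidHom_of_hasEnoughRootsOfUnity A ℂ, ha]
  obtain ⟨j, -, hj⟩ := (Nat.dvd_prime_pow Nat.prime_two).1 (hcd ▸ orderOf_dvd_natCard l₀)
  -- constant on the generators
  have hconst : ∀ lam ∈ Finset.univ.filter (fun lam => Subgroup.zpowers lam = Subgroup.zpowers l₀),
      h lam = h l₀ := by
    intro lam hlam
    have hz' := (Finset.mem_filter.1 hlam).2
    have hmem : lam ∈ Subgroup.zpowers l₀ := hz' ▸ Subgroup.mem_zpowers lam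
    obtain ⟨k, rfl⟩ := (isOfFinOrder_of_finite l₀).mem_powers_iff_mem_zpowers.2 hmem
    have hord : orderOf (l₀ ^ k) = orderOf l₀ := by
      rw [← Nat.card_zpowers, hz', Nat.card_zpowers]
    dsimp only [h]
    rcases Nat.eq_zero_or_pos j with rfl | hjp
    · have : l₀ = 1 := orderOf_eq_one_iff.1 (by simpa using hj)
      rw [show l₀ ^ k = l₀ by rw [this]; exact MonoidHom.ext fun g => by simp]
    have hk : Odd k := by
      rw [IsOfFinOrder.orderOf_pow l₀ k (isOfFinOrder_of_finite l₀), hj] at hord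
      have h1 : Nat.gcd (2 ^ j) k = 1 := by
        by_contra hne
        have h2 : 1 < Nat.gcd (2 ^ j) k :=
          lt_of_le_of_ne (Nat.gcd_pos_of_pos_left _ (by positivity)) (Ne.symm hne)
        exact absurd hord (Nat.div_lt_self (by positivity) h2).ne
      have h3 : Nat.Coprime (2 ^ j) k := h1
      rwa [Nat.coprime_pow_left_iff hjp, Nat.coprime_two_left] at h3
    rw [hzinv l₀ k hk]
    simp only [MonoidHom.pow_apply, Units.val_pow_eq_pow_val]
    rw [signPart_pow_odd (hpow2 l₀ x) hk, signPart_pow_odd (hpow2 l₀ y) hk,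
      signPart_pow_odd (hpow2 l₀ _) hk]
  rw [Finset.sum_congr rfl hconst, Finset.sum_const, nsmul_eq_mul]
  have hcard : (Finset.univ.filter fun lam => Subgroup.zpowers lam = Subgroup.zpowers l₀).card =
      Nat.totient (2 ^ j) := by
    rw [← hj, ← IsCyclic.card_orderOf_eq_totient (α := Subgroup.zpowers l₀)
      (d := orderOf l₀) (by rw [← Nat.card_eq_fintype_card, Nat.card_zpowers])]
    refine Finset.card_bij (fun lam hlam => ⟨lam, (Finset.mem_filter.1 hlam).2 ▸
      Subgroup.mem_zpowers lam⟩) (fun lam hlam => ?_) (fun _ _ _ _ e => congrArg Subtype.val e)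
      (fun b hb => ⟨b, ?_, rfl⟩)
    · refine Finset.mem_filter.2 ⟨Finset.mem_univ _, ?_⟩
      rw [Subgroup.orderOf_mk, ← Nat.card_zpowers, (Finset.mem_filter.1 hlam).2, Nat.card_zpowers]
    · refine Finset.mem_filter.2 ⟨Finset.mem_univ _, ?_⟩
      refine Subgroup.eq_of_le_of_card_ge (Subgroup.zpowers_le.2 b.2) ?_
      rw [Nat.card_zpowers, Nat.card_zpowers, Subgroup.orderOf_coe, (Finset.mem_filter.1 hb).2]
  rw [hcard]
  have hl : ∀ g, (l₀ g : ℂ) ^ (2 ^ j) = 1 := fun g => by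
    rw [← Units.val_pow_eq_pow_val, ← MonoidHom.pow_apply, ← hj, pow_orderOf_eq_one,
      MonoidHom.one_apply, Units.val_one]
  dsimp only [h]
  rw [map_mul, Units.val_mul]
  match j, hl with
  | 0, hl =>
    exact Dvd.dvd.mul_left (Dvd.dvd.mul_left (four_dvd_of_sq
      (by have := hl x; rw [pow_zero, pow_one] at this; rw [this, one_pow])
      (by have := hl y; rw [pow_zero, pow_one] at this; rw [this, one_pow])) _) _
  | 1, hl =>
    exact Dvd.dvd.mul_left (Dvd.dvd.mul_left (four_dvd_of_sq (hl x) (hl y)) _) _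
  | 2, hl =>
    obtain ⟨c, hc⟩ := odd_sum_four (hl x) (hl y)
    rw [hc, show Nat.totient (2 ^ 2) = 2 from rfl]
    exact ⟨z l₀ * c, by push_cast; ring⟩
  | i + 3, _ =>
    refine Dvd.dvd.mul_right ?_ _
    rw [Nat.totient_prime_pow_succ Nat.prime_two]
    exact ⟨(2 : ℤ) ^ i, by push_cast; ring⟩

/-- Odd values agree modulo four with a multiple of a sign character. -/
theorem exists_sign_twist (hA : IsPGroup 2 A) (V : A → ℤ)
    (hV : IsGeneralizedCharacter A fun g => (V g : ℂ)) (hodd : ∀ g, ¬ (2 : ℤ) ∣ V g) :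
    ∃ θ : A →* ℂˣ, ∃ s : A → ℤ, ∀ g, (θ g : ℂ) = (s g : ℂ) ∧ (s g = 1 ∨ s g = -1) ∧
      (4 : ℤ) ∣ s g * V g - V 1 := by
  classical
  let s : A → ℤ := fun g => if (4 : ℤ) ∣ V g - V 1 then 1 else -1
  have hs : ∀ g, (4 : ℤ) ∣ s g * V g - V 1 := by
    intro g
    have h1 := hodd g
    have h2 := hodd 1
    dsimp only [s]
    split_ifs <;> omega
  have hs1 : ∀ g, s g = 1 ∨ s g = -1 := fun g => by
    dsimp only [s]
    split_ifs <;> simp
  have hmul : ∀ g g', s (g * g') = s g * s g' := by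
    intro g g'
    have h := four_dvd_sum hA V hV g g'
    have h1 := hodd g; have h2 := hodd g'; have h3 := hodd 1; have h4 := hodd (g * g')
    have a1 := hs g; have a2 := hs g'; have a3 := hs (g * g')
    rcases hs1 g with e1 | e1 <;> rcases hs1 g' with e2 | e2 <;>
      rcases hs1 (g * g') with e3 | e3 <;> rw [e1] at a1 ⊢ <;> rw [e2] at a2 ⊢ <;>
      rw [e3] at a3 ⊢ <;> omega
  have h1 : s 1 = 1 := by simp [s]
  let f : A →* ℂ :=
    { toFun := fun g => (s g : ℂ)
      map_one' := by simp [h1]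
      map_mul' := fun g g' => by simp [hmul] }
  exact ⟨f.toHomUnits, s, fun g => ⟨rfl, hs1 g, hs g⟩⟩

end CfsgLib.FreeInertial
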