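import Cfsg.Agent.Lib.FreeInertial.LocalValue

/-!
# The levels are values of a generalized character
-/

set_option autoImplicit false
set_option maxHeartbeats 1600000
set_option synthInstance.maxHeartbeats 400000

open Cfsg CfsgLib.Blocks CfsgLib.Blocks.Pairs CfsgLib.BlockStar Polynomial CfsgLib.BlockReg
open scoped Classical ComplexConjugate

namespace CfsgLib.FreeInertial

universe u

variable {G : Type u} [Group G] [Fintype G] {p : ℕ} [Fact p.Prime] {M : Ideal AlgInt}
  [M.IsMaximal] [CharP (ResField M) p] {B : Set (IrrCharacter G)} {hB : IsPBlock M B}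
  {P : Subgroup G} {e : MonoidAlgebra (ResField M) G}

theorem sq_eq_of_dlev {p d : ℕ} (hp : p.Prime) {x : ℂ} {L L' : ℤ}
    (h : x = (L : ℂ) ^ 2 * ((p ^ d : ℕ) : ℂ)) (h' : x = (L' : ℂ) ^ 2 * ((p ^ d : ℕ) : ℂ)) :
    L.natAbs = L'.natAbs := by
  have := mul_right_cancel₀ (Nat.cast_ne_zero.2 (pow_ne_zero d hp.ne_zero)) (h.symm.trans h')
  exact Int.natAbs_eq_iff_sq_eq.2 (by exact_mod_cast this)

theorem isIntegral_aeval {ζ : ℂ} (h : IsIntegral ℤ ζ) (Q : ℤ[X]) : IsIntegral ℤ (aeval ζ Q) := by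
  induction Q using Polynomial.induction_on' with
  | add P P' hP hP' => rw [map_add]; exact hP.add hP'
  | monomial n r => rw [aeval_monomial]; exact isIntegral_algebraMap.mul (h.pow n)

/-- **The levels are prime to `p`.** -/
theorem exists_level (hM : IsPModular p M) {y : fixAlg (ResField M) P} (hy : Prim y)
    (h : Pointed p (ebar hB) P e (y : MonoidAlgebra (ResField M) G))
    (hfree : ∀ g ∈ pairStab P e, ∀ x ∈ P, x ≠ 1 → g * x * g⁻¹ = x →
      g ∈ Subgroup.centralizer (P : Set G))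
    {a : Subgroup G → MonoidAlgebra (locRing M) G}
    (ha : IsLifting P (y : MonoidAlgebra (ResField M) G) a) {R : Subgroup G} (hR : R ≤ P)
    (hR1 : R ≠ ⊥) :
    ∃ L : ℤ, ¬ (p : ℤ) ∣ L ∧ dlev p a R = (L : ℂ) ^ 2 * ((p ^ blockDefect p B : ℕ) : ℂ) := by
  induction hn : Nat.card P - Nat.card R using Nat.strong_induction_on generalizing R with
  | _ n ih =>
  subst hn
  obtain ⟨H, hH, b, hb, htb, F, hF, hF1, hloc⟩ := exists_local hM h hfree ha hR hR1
  haveI := Fintype.ofFinite H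
  obtain ⟨L, ζ, Q, hζ, hval, ⟨θ, hθb, hθ⟩, -, hD⟩ := hloc 1
  have hζ1 : ζ = 1 := by simpa using hζ
  rw [show ((1 : P) : G) = 1 from rfl, Subgroup.zpowers_one_eq_bot, sup_bot_eq] at hD
  by_cases hRP : R = P
  · subst hRP
    obtain ⟨hai, has, har⟩ := ha R le_rfl
    have hres : res H (a R) * res H (a R) = res H (a R) := res_idem hai (hH ▸ has)
    obtain ⟨θ', hθ', N, hN, hpN⟩ := exists_top_unit hM hH hy h har hb htb hres
    refine ⟨L, fun hd => hpN ?_, hD⟩
    have hcl := CfsgLib.Char.IsIrrCharacter.isClassFunction θ'.2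
    have hfix : ∀ {S : Type} [CommRing S] (z : MonoidAlgebra S H),
        z ∈ fixAlg S (Subgroup.zpowers (1 : H)) := fun z => mem_fixAlg_zpowers fun s => by simp
    have hi' : down H (trunc R (y : MonoidAlgebra (ResField M) G)) =
        redA M (res H (a R)) := by rw [redA_res, har]
    have hidem : redA M (res H (a R)) * redA M (res H (a R)) = redA M (res H (a R)) := by
      rw [← map_mul, hres]
    have h1 : F θ' 1 = (N : ℂ) := by
      rw [hF1, hi', val_eq hM hcl (hfix _) hidem (hfix _) hres rfl, ← MonoidAlgebra.one_def,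
        mul_one, hN]
    have h2 : MemLocalIdeal M ((N : ℤ) : ℂ) := by
      rw [Int.cast_natCast, ← h1, hval, hζ1]
      exact memIdeal_mul_right hM ((memIdeal_intCast_iff hM L).2 hd)
        (memRing_algInt hM (isIntegral_aeval isIntegral_one _))
    exact_mod_cast (memIdeal_intCast_iff hM _).1 h2
  obtain ⟨x, hxP, hx⟩ := SetLike.exists_of_lt (lt_of_le_of_ne hR hRP)
  set R' := R ⊔ Subgroup.zpowers x with hR'
  have hR'P : R' ≤ P := sup_le hR (Subgroup.zpowers_le.2 hxP)
  have hlt : R < R' := lt_of_le_of_ne le_sup_left fun hh =>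
    hx (hh.ge (Subgroup.mem_sup_right (Subgroup.mem_zpowers x)))
  have hcard : Nat.card R < Nat.card R' := lt_of_le_of_ne (Subgroup.card_le_of_le hlt.le) fun hh =>
    hlt.ne (Subgroup.eq_of_le_of_card_ge hlt.le hh.ge)
  have hle : Nat.card R' ≤ Nat.card P := Subgroup.card_le_of_le hR'P
  obtain ⟨L', hpL', hD'⟩ := ih _ (by omega) hR'P
    (fun hh => hR1 (eq_bot_iff.2 (le_sup_left.trans hh.le))) rfl
  obtain ⟨L₁, ζ', Q', hζ', hval', ⟨θ₁, hθ₁b, hθ₁⟩, -, hD₁⟩ := hloc ⟨x, hxP⟩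
  have hpL₁ : ¬ (p : ℤ) ∣ L₁ := by
    rwa [Int.natCast_dvd, sq_eq_of_dlev (Fact.out : p.Prime) hD₁ hD', ← Int.natCast_dvd]
  refine ⟨L, fun hd => hθ₁ ?_, hD⟩
  letI : CommGroup P :=
    { (inferInstance : Group P) with mul_comm := fun u v => Subtype.ext (h.comm _ u.2 _ v.2) }
  have h1 : MemLocalIdeal M (F θ₁ 1) := by
    rw [hval, hζ1]
    exact memIdeal_mul_right hM ((memIdeal_intCast_iff hM L).2 hd)
      (memRing_algInt hM (isIntegral_aeval isIntegral_one _))
  have h2 := memIdeal_add hM (gen_sub_one_memIdeal hM h.pair.pair.pgroup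
    (CfsgLib.Char.IsCharacter.isGeneralizedCharacter (hF θ₁)) ⟨x, hxP⟩) h1
  rw [sub_add_cancel, hval'] at h2
  have hn : 0 < orderOf (⟨x, hxP⟩ : P) := orderOf_pos _
  by_contra hu
  exact not_memIdeal_mul hM (memRing_intCast hM L₁)
    (memRing_algInt hM (isIntegral_aeval (hζ'.isIntegral hn) _))
    (fun h3 => hpL₁ ((memIdeal_intCast_iff hM _).1 h3)) hu h2

/-- **The weight.** -/
theorem exists_weight (hM : IsPModular p M) {y : fixAlg (ResField M) P} (hy : Prim y)
    (h : Pointed p (ebar hB) P e (y : MonoidAlgebra (ResField M) G))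
    (hfree : ∀ g ∈ pairStab P e, ∀ x ∈ P, x ≠ 1 → g * x * g⁻¹ = x →
      g ∈ Subgroup.centralizer (P : Set G))
    {a : Subgroup G → MonoidAlgebra (locRing M) G}
    (ha : IsLifting P (y : MonoidAlgebra (ResField M) G) a) :
    ∃ (W : P → ℤ) (c : ℤ), IsGeneralizedCharacter P (fun x => (W x : ℂ)) ∧
      ∀ x : P, x ≠ 1 → ¬ (p : ℤ) ∣ W x ∧ qmod p ∣ W x - c ∧
        dlev p a (Subgroup.zpowers (x : G)) =
          (W x : ℂ) ^ 2 * ((p ^ blockDefect p B : ℕ) : ℂ) := by
  letI : CommGroup P :=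
    { (inferInstance : Group P) with mul_comm := fun u v => Subtype.ext (h.comm _ u.2 _ v.2) }
  have hmap : ∀ R' : Subgroup P, R' ≠ ⊥ → R'.map P.subtype ≠ ⊥ := fun R' h' hh =>
    h' ((Subgroup.map_eq_bot_iff_of_injective R' P.subtype_injective).1 hh)
  choose L hLp hLD using fun (R' : Subgroup P) (h' : R' ≠ ⊥) =>
    exists_level hM hy h hfree ha (Subgroup.map_subtype_le R') (hmap R' h')
  let m : Subgroup P → ℕ := fun R' => if h' : R' ≠ ⊥ then (L R' h').natAbs else 1
  have hm : ∀ R', R' ≠ ⊥ → ¬ p ∣ m R' := fun R' h' => by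
    simp only [m, dif_pos h']
    rw [← Int.natCast_dvd]
    exact hLp R' h'
  obtain ⟨W, c, hW, hWx⟩ := exists_glue hM h.pair.pair.pgroup m hm fun Q hQ => by
    obtain ⟨H, hH, b, hb, -, F, hF, -, hloc⟩ :=
      exists_local hM h hfree ha (Subgroup.map_subtype_le Q) (hmap Q hQ)
    obtain ⟨θ, hθ⟩ := BlockReg.block_nonempty hM hb
    refine ⟨F θ, CfsgLib.Char.IsCharacter.isGeneralizedCharacter (hF θ), fun x => ?_, fun x => ?_⟩
    all_goals
      obtain ⟨L₁, ζ, R, hζ, hval, -, habs, hD⟩ := hloc x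
      have hne : Q ⊔ Subgroup.zpowers x ≠ ⊥ := fun hh =>
        hQ (eq_bot_iff.2 (le_sup_left.trans hh.le))
      have heq : Q.map P.subtype ⊔ Subgroup.zpowers (x : G) =
          (Q ⊔ Subgroup.zpowers x).map P.subtype := by
        rw [Subgroup.map_sup, MonoidHom.map_zpowers]; rfl
      rw [heq] at hD
      have hmx : m (Q ⊔ Subgroup.zpowers x) = L₁.natAbs := by
        simp only [m, dif_pos hne]
        exact sq_eq_of_dlev (Fact.out : p.Prime) (hLD _ hne) hD
    · rw [habs θ hθ, hmx, ← Int.cast_natCast L₁.natAbs, ← Int.cast_pow, ← Int.cast_pow,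
        Int.natAbs_sq]
    · rw [hmx, hval]
      rcases eq_or_ne L₁ 0 with rfl | hL
      · simp [isIntegral_zero]
      have hint := isIntegral_aeval (hζ.isIntegral (orderOf_pos x)) (R θ)
      have h0 : ((L₁.natAbs : ℕ) : ℂ) ≠ 0 := Nat.cast_ne_zero.2 (Int.natAbs_ne_zero.2 hL)
      rcases Int.natAbs_eq L₁ with hs | hs
      · rw [show (L₁ : ℂ) = (L₁.natAbs : ℂ) from
          (congrArg (Int.cast : ℤ → ℂ) hs).trans (Int.cast_natCast _), mul_div_cancel_left₀ _ h0]
        exact hint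
      · rw [show (L₁ : ℂ) = -(L₁.natAbs : ℂ) from
          (congrArg (Int.cast : ℤ → ℂ) hs).trans (by rw [Int.cast_neg, Int.cast_natCast]), neg_mul, neg_div,
          mul_div_cancel_left₀ _ h0]
        exact hint.neg
  refine ⟨W, c, hW, fun x hx => ?_⟩
  have hne : Subgroup.zpowers x ≠ ⊥ := by rwa [Ne, Subgroup.zpowers_eq_bot]
  obtain ⟨h1, h2⟩ := hWx x hx
  have hWL : (W x).natAbs = (L _ hne).natAbs := by rw [h1]; exact dif_pos hne
  refine ⟨fun hd => hLp _ hne ?_, h2, ?_⟩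
  · rwa [Int.natCast_dvd, ← hWL, ← Int.natCast_dvd]
  · rw [show Subgroup.zpowers (x : G) = (Subgroup.zpowers x).map P.subtype from
        (MonoidHom.map_zpowers P.subtype x).symm, hLD _ hne]
    congr 1
    exact_mod_cast (Int.natAbs_eq_iff_sq_eq.1 hWL).symm

end CfsgLib.FreeInertial
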